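import Cfsg.Agent.Lib.Coprime.Action
import Cfsg.Agent.Lib.Kreknin.Assoc

/-!
# Fixed subgroups of an elementary abelian group of operators
-/

set_option autoImplicit false
set_option linter.unusedSectionVars false
set_option linter.style.haveILetI false

namespace Cfsg.Agent.Lib.RankFixedClass

open Subgroup
open scoped commutatorElement

variable {A P : Type*} [CommGroup A] [Group P] [MulDistribMulAction A P]

variable (P) in
/-- The fixed points of a subgroup of operators. -/
def fixS (M : Subgroup A) : Subgroup P where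
  carrier := {x | ∀ a ∈ M, a • x = x}
  one_mem' := fun a _ => smul_one a
  mul_mem' := fun {x y} hx hy a ha => by rw [smul_mul', hx a ha, hy a ha]
  inv_mem' := fun {x} hx a ha => by rw [smul_inv', hx a ha]

variable (P) in
/-- The fixed points of one operator. -/
def fixE (a : A) : Subgroup P where
  carrier := {x | a • x = x}
  one_mem' := smul_one a
  mul_mem' := fun {x y} (hx : a • x = x) (hy : a • y = y) => by
    change a • (x * y) = x * y; rw [smul_mul', hx, hy]
  inv_mem' := fun {x} (hx : a • x = x) => by change a • x⁻¹ = x⁻¹; rw [smul_inv', hx]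

theorem mem_fixS {M : Subgroup A} {x : P} : x ∈ fixS P M ↔ ∀ a ∈ M, a • x = x := Iff.rfl

theorem mem_fixE {a : A} {x : P} : x ∈ fixE P a ↔ a • x = x := Iff.rfl

theorem fixS_anti {M M' : Subgroup A} (h : M ≤ M') : fixS P M' ≤ fixS P M :=
  fun _ hx a ha => hx a (h ha)

theorem fixS_le_fixE {M : Subgroup A} {a : A} (ha : a ∈ M) : fixS P M ≤ fixE P a :=
  fun _ hx => hx a ha

/-- Invariance under the operators. -/
def AInv (A : Type*) {P : Type*} [CommGroup A] [Group P] [MulDistribMulAction A P]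
    (S : Subgroup P) : Prop := ∀ a : A, ∀ x ∈ S, a • x ∈ S

theorem aInv_fixS (M : Subgroup A) : AInv A (fixS P M) := fun a x hx b hb => by
  rw [← mul_smul, mul_comm, mul_smul, hx b hb]

theorem aInv_fixE (b : A) : AInv A (fixE P b) := fun a x (hx : b • x = x) => by
  change b • a • x = a • x
  rw [← mul_smul, mul_comm, mul_smul, hx]

theorem aInv_top : AInv A (⊤ : Subgroup P) := fun _ _ _ => mem_top _

theorem AInv.inf {S T : Subgroup P} (hS : AInv A S) (hT : AInv A T) : AInv A (S ⊓ T) :=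
  fun a x hx => mem_inf.2 ⟨hS a x (mem_inf.1 hx).1, hT a x (mem_inf.1 hx).2⟩

theorem AInv.map_le {S : Subgroup P} (hS : AInv A S) (a : A) :
    S.map (MulDistribMulAction.toMonoidHom P a) ≤ S := by
  rintro _ ⟨x, hx, rfl⟩; exact hS a x hx

theorem aInv_of_map_le {S : Subgroup P}
    (h : ∀ a : A, S.map (MulDistribMulAction.toMonoidHom P a) ≤ S) : AInv A S :=
  fun a x hx => h a ⟨x, hx, rfl⟩

theorem AInv.commutator {S T : Subgroup P} (hS : AInv A S) (hT : AInv A T) : AInv A ⁅S, T⁆ :=
  aInv_of_map_le fun a => (map_commutator S T _).trans_le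
    (commutator_mono (hS.map_le a) (hT.map_le a))

theorem aInv_iSup {ι : Sort*} {S : ι → Subgroup P} (h : ∀ i, AInv A (S i)) :
    AInv A (⨆ i, S i) :=
  aInv_of_map_le fun a => by
    rw [Subgroup.map_iSup]
    exact iSup_mono fun i => (h i).map_le a

theorem aInv_gam (n : ℕ) : AInv A (Kreknin.gam P n) :=
  fun a _ hx => Kreknin.map_gam_mem (MulDistribMulAction.toMulAut A P a) n hx

variable {p k : ℕ} [hp : Fact p.Prime]

/-- Subgroups of index `p`. -/
def MaxSub (p : ℕ) (M : Subgroup A) : Prop := Nat.card M * p = Nat.card A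

variable [Finite A]

theorem coprime_card_subgroup (hA : Nat.card A = p ^ k) (hcop : (Nat.card P).Coprime p)
    (M : Subgroup A) (S : Subgroup P) : (Nat.card M).Coprime (Nat.card S) := by
  have h := (hcop.pow_right k).symm
  rw [← hA] at h
  exact (h.coprime_dvd_left (card_subgroup_dvd_card M)).coprime_dvd_right (card_subgroup_dvd_card S)

theorem isPGroup_ops (hA : Nat.card A = p ^ k) : IsPGroup p A := IsPGroup.of_card hA

theorem exists_maxSub_le (hA : Nat.card A = p ^ k) (hk : 1 ≤ k) (M₀ : Subgroup A)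
    (h : Nat.card A ≤ Nat.card M₀ * p) : ∃ M, MaxSub p M ∧ M ≤ M₀ := by
  have h1 : p ^ (k - 1) ≤ Nat.card M₀ := by
    refine Nat.le_of_mul_le_mul_right (Nat.le_trans (le_of_eq ?_) h) hp.out.pos
    rw [hA, ← pow_succ, Nat.sub_add_cancel hk]
  obtain ⟨M, hle, hM⟩ := Sylow.exists_subgroup_le_card_pow_prime_of_le_card hp.out
    (isPGroup_ops hA) (H := M₀) h1
  exact ⟨M, by unfold MaxSub; rw [hM, hA, ← pow_succ, Nat.sub_add_cancel hk], hle⟩

theorem MaxSub.sup_zpowers (hA : Nat.card A = p ^ k) {M : Subgroup A} (hM : MaxSub p M) {b : A}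
    (hb : b ∉ M) : M ⊔ zpowers b = ⊤ := by
  set N := M ⊔ zpowers b with hN
  have hlt : M < N := lt_of_le_of_ne le_sup_left fun h => hb (h ▸ mem_sup_right (mem_zpowers b))
  refine eq_top_of_card_eq _ ?_
  obtain ⟨i, hi⟩ := (isPGroup_ops hA).to_subgroup N |> IsPGroup.iff_card.1
  obtain ⟨j, hj⟩ := (isPGroup_ops hA).to_subgroup M |> IsPGroup.iff_card.1
  have hjk : j + 1 = k := by
    have h := hM
    unfold MaxSub at h
    rw [hj, hA, ← pow_succ] at h
    exact Nat.pow_right_injective hp.out.two_le h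
  have hcl : Nat.card M < Nat.card N := lt_of_not_ge fun hge => hlt.ne (eq_of_le_of_card_ge hlt.le hge)
  rw [hi, hj] at hcl
  have hik : i ≤ k := by
    have h := card_subgroup_dvd_card N
    rw [hi, hA] at h
    exact (Nat.pow_dvd_pow_iff_le_right hp.out.one_lt).1 h
  have hji : j < i := (Nat.pow_lt_pow_iff_right hp.out.one_lt).1 hcl
  rw [hi, hA, show i = k by omega]

theorem MaxSub.fix_le_fix_top (hA : Nat.card A = p ^ k) {M : Subgroup A} (hM : MaxSub p M) {b : A}
    (hb : b ∉ M) : fixS P M ⊓ fixE P b ≤ fixS P (⊤ : Subgroup A) := by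
  intro x hx a _
  have h : (⊤ : Subgroup A) ≤ MulAction.stabilizer A x := by
    rw [← hM.sup_zpowers hA hb]
    exact sup_le (fun c hc => (mem_inf.1 hx).1 c hc) (zpowers_le.2 (mem_inf.1 hx).2)
  exact h (mem_top a)

theorem MaxSub.exists_ne_one {M : Subgroup A} (hM : MaxSub p M) {B : Subgroup A}
    (hB : p ^ 2 ≤ Nat.card B) : ∃ b ∈ B, b ∈ M ∧ b ≠ 1 := by
  by_contra hcon
  simp only [not_exists, not_and, not_not] at hcon
  have hinj : Function.Injective fun x : B × M => (x.1 : A) * (x.2 : A) := by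
    rintro ⟨b, m⟩ ⟨b', m'⟩ h
    have h1 : (b : A) / (b' : A) = (m' : A) / (m : A) := by
      rw [div_eq_div_iff_mul_eq_mul, mul_comm (m' : A)]; exact h
    have h2 : (b : A) / (b' : A) = 1 :=
      hcon _ (div_mem b.2 b'.2) (h1 ▸ div_mem m'.2 m.2)
    have h3 : b = b' := Subtype.ext (div_eq_one.1 h2)
    subst h3
    exact Prod.ext rfl (Subtype.ext (mul_left_cancel h))
  have h := Nat.card_le_card_of_injective _ hinj
  rw [Nat.card_prod, ← hM] at h
  have h2 : Nat.card B ≤ p := by
    refine Nat.le_of_mul_le_mul_right ?_ (Nat.card_pos : 0 < Nat.card M)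
    rwa [mul_comm p]
  have := hB.trans h2
  nlinarith [hp.out.two_le]

variable [Finite P]

/-- Invariant subgroups are generated by fixed points of subgroups of index `p`. -/
theorem le_iSup_fixS (hA : Nat.card A = p ^ k) (hk : 1 ≤ k) (hexp : ∀ a : A, a ^ p = 1)
    (hcop : (Nat.card P).Coprime p) {S : Subgroup P} (hS : AInv A S) : S ≤ ⨆ M : {M : Subgroup A // MaxSub p M}, S ⊓ fixS P M.1 := by
  haveI := Coprime.Action.finite_semi (A := A) (G := P)
  haveI : IsMulCommutative (Coprime.Action.actA A P) := ⟨⟨fun x y => Subtype.ext (by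
    obtain ⟨a, ha⟩ := x.2
    obtain ⟨b, hb⟩ := y.2
    show (x : Coprime.Action.Semi A P) * y = y * x
    rw [← ha, ← hb, ← map_mul, ← map_mul, mul_comm])⟩⟩
  set Q := ⨆ M : {M : Subgroup A // MaxSub p M}, S ⊓ fixS P M.1 with hQ
  suffices h : S.map (Coprime.Action.embG A P) ≤ Q.map (Coprime.Action.embG A P) from
    fun x hx => (mem_map_iff_mem SemidirectProduct.inl_injective).1 (h (mem_map_of_mem _ hx))
  conv_lhs => rw [← Coprime.iSup_centralizer_cyclic_quotient_eq
    (Coprime.Action.actA_le_normalizer_iff.mpr hS) (by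
      rw [Coprime.Action.card_actA, Coprime.Action.card_map_embG, hA]
      exact ((hcop.coprime_dvd_left (card_subgroup_dvd_card S)).pow_right k).symm)]
  refine iSup₂_le ?_
  rintro B ⟨hBA, _, ⟨a, rfl⟩, hBa⟩
  set M₀ : Subgroup A := B.comap SemidirectProduct.inr with hM₀
  have hcard : Nat.card A ≤ Nat.card M₀ * p := by
    have htop : M₀ ⊔ zpowers a = ⊤ := by
      refine map_injective (SemidirectProduct.inr_injective
        (φ := MulDistribMulAction.toMulAut A P)) ?_
      rw [Subgroup.map_sup, map_comap_eq_self hBA, MonoidHom.map_zpowers, hBa,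
        ← MonoidHom.range_eq_map]
    have hap : Nat.card (zpowers a) ≤ p := by
      rw [Nat.card_zpowers]
      exact Nat.le_of_dvd hp.out.pos (orderOf_dvd_of_pow_eq_one (hexp a))
    have h := Nat.card_le_card_of_surjective (fun x : M₀ × zpowers a => (x.1 : A) * (x.2 : A))
      (fun y => by
        obtain ⟨u, hu, v, hv, rfl⟩ := mem_sup.1 (htop ▸ mem_top y)
        exact ⟨(⟨u, hu⟩, ⟨v, hv⟩), rfl⟩)
    rw [Nat.card_prod] at h
    exact h.trans (Nat.mul_le_mul_left _ hap)
  obtain ⟨M, hM, hle⟩ := exists_maxSub_le hA hk M₀ hcard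
  intro y hy
  obtain ⟨⟨x, hx, rfl⟩, hyc⟩ := mem_inf.1 hy
  refine mem_map_of_mem _ (le_iSup (fun M : {M : Subgroup A // MaxSub p M} => S ⊓ fixS P M.1)
    ⟨M, hM⟩ (mem_inf.2 ⟨hx, fun c hc => ?_⟩))
  apply SemidirectProduct.inl_injective (φ := MulDistribMulAction.toMulAut A P)
  show Coprime.Action.embG A P (c • x) = Coprime.Action.embG A P x
  rw [Coprime.Action.inl_smul, mem_centralizer_iff.1 hyc _ (hle hc)]
  group

end Cfsg.Agent.Lib.RankFixedClass
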