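import Cfsg.Agent.Lib.Kreknin.Algebra

/-!
# Subgroups of a Lie ring acting nilpotently

`adPow S W n` is spanned by the brackets `⁅s₁, ⁅s₂, … ⁅sₙ, w⁆⁆⁆`.
-/

set_option autoImplicit false

namespace Cfsg.Agent.Lib.RankFixedClass

open Kreknin

variable {L : Type*} [LieRing L]

/-- Iterated brackets with `S`. -/
def adPow (S W : AddSubgroup L) : ℕ → AddSubgroup L
  | 0 => W
  | n + 1 => brk S (adPow S W n)

theorem adPow_add (S W : AddSubgroup L) (n : ℕ) :
    ∀ m : ℕ, adPow S W (m + n) = adPow S (adPow S W n) m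
  | 0 => by rw [Nat.zero_add]; rfl
  | m + 1 => by rw [Nat.succ_add]; exact congrArg (brk S) (adPow_add S W n m)

theorem adPow_mono {S S' W W' : AddSubgroup L} (hS : S ≤ S') (hW : W ≤ W') :
    ∀ n, adPow S W n ≤ adPow S' W' n
  | 0 => hW
  | n + 1 => brk_mono hS (adPow_mono hS hW n)

theorem adPow_bot (S : AddSubgroup L) : ∀ n, adPow S (⊥ : AddSubgroup L) n = ⊥
  | 0 => rfl
  | n + 1 => le_bot_iff.1 (brk_le fun a _ b hb => by
      rw [adPow_bot S n, AddSubgroup.mem_bot] at hb
      rw [hb, lie_zero]; exact zero_mem _)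

theorem brk_iSup_right {ι : Sort*} (S : AddSubgroup L) (W : ι → AddSubgroup L) :
    brk S (⨆ i, W i) ≤ ⨆ i, brk S (W i) := brk_le fun a ha b hb => by
  suffices h : (⨆ i, W i) ≤ (⨆ i, brk S (W i)).comap (lieL a) from h hb
  exact iSup_le fun i x hx => AddSubgroup.mem_iSup_of_mem i (lie_mem_brk ha hx)

theorem adPow_iSup {ι : Sort*} (S : AddSubgroup L) (W : ι → AddSubgroup L) :
    ∀ n, adPow S (⨆ i, W i) n ≤ ⨆ i, adPow S (W i) n
  | 0 => le_rfl
  | n + 1 => (brk_mono le_rfl (adPow_iSup S W n)).trans (brk_iSup_right S _)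

/-- `S` acts nilpotently with index `n`. -/
def AdNil (S : AddSubgroup L) (n : ℕ) : Prop := adPow S ⊤ n = ⊥

theorem AdNil.mono {S S' : AddSubgroup L} {n n' : ℕ} (h : AdNil S' n) (hS : S ≤ S') (hn : n ≤ n') :
    AdNil S n' := by
  refine le_bot_iff.1 ?_
  obtain ⟨m, rfl⟩ := Nat.exists_eq_add_of_le hn
  rw [add_comm, adPow_add]
  refine (adPow_mono le_rfl ((adPow_mono hS le_rfl n).trans h.le) m).trans ?_
  rw [adPow_bot]

theorem adNil_bot : AdNil (⊥ : AddSubgroup L) 1 := le_bot_iff.1 (brk_le fun a ha b _ => by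
  rw [AddSubgroup.mem_bot] at ha
  rw [ha, zero_lie]; exact zero_mem _)

/-- Adding a nilpotently acting subgroup which normalizes a nilpotently acting one. -/
theorem AdNil.sup {I S : AddSubgroup L} {n m : ℕ} (hI : AdNil I n) (hS : AdNil S m)
    (hSI : brk S I ≤ I) : AdNil (I ⊔ S) (n * m) := by
  have hdec : ∀ j, adPow I ⊤ (j + 1) ≤ adPow I (⊤ : AddSubgroup L) j := by
    intro j
    rw [adPow_add]
    exact adPow_mono le_rfl le_top j
  have hpres : ∀ j, brk S (adPow I ⊤ j) ≤ adPow I (⊤ : AddSubgroup L) j := by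
    intro j
    induction j with
    | zero => exact le_top
    | succ j ih =>
      refine brk_le fun s hs w hw => ?_
      suffices h : adPow I ⊤ (j + 1) ≤ (adPow I ⊤ (j + 1)).comap (lieL s) from h hw
      refine brk_le fun i hi v hv => ?_
      change ⁅s, ⁅i, v⁆⁆ ∈ adPow I ⊤ (j + 1)
      rw [leibniz_lie]
      exact add_mem (lie_mem_brk (hSI (lie_mem_brk hs hi)) hv)
        (lie_mem_brk hi (ih (lie_mem_brk hs hv)))
  have hrun : ∀ j t, adPow (I ⊔ S) (adPow I ⊤ j) t ≤
      adPow I ⊤ (j + 1) ⊔ adPow S (adPow I (⊤ : AddSubgroup L) j) t := by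
    intro j t
    induction t with
    | zero => exact le_sup_right
    | succ t ih =>
      have hSt : adPow S (adPow I ⊤ j) t ≤ adPow I (⊤ : AddSubgroup L) j := by
        clear ih
        induction t with
        | zero => exact le_rfl
        | succ t ih' => exact (brk_mono le_rfl ih').trans (hpres j)
      refine (brk_mono le_rfl ih).trans (brk_le fun x hx y hy => ?_)
      suffices h : I ⊔ S ≤ (adPow I ⊤ (j + 1) ⊔ adPow S (adPow I ⊤ j) (t + 1)).comap (lieR y) from
        h hx
      refine sup_le (fun i hi => AddSubgroup.mem_sup_left ?_) (fun s hs => ?_)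
      · exact lie_mem_brk hi (sup_le (hdec j) hSt hy)
      · suffices h : adPow I ⊤ (j + 1) ⊔ adPow S (adPow I ⊤ j) t ≤
            (adPow I ⊤ (j + 1) ⊔ adPow S (adPow I ⊤ j) (t + 1)).comap (lieL s) from h hy
        exact sup_le (fun w hw => AddSubgroup.mem_sup_left (hpres _ (lie_mem_brk hs hw)))
          (fun w hw => AddSubgroup.mem_sup_right (lie_mem_brk hs hw))
  have hall : ∀ j, adPow (I ⊔ S) ⊤ (j * m) ≤ adPow I (⊤ : AddSubgroup L) j := by
    intro j
    induction j with
    | zero => rw [Nat.zero_mul]; exact le_rfl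
    | succ j ih =>
      rw [Nat.succ_mul, add_comm, adPow_add]
      refine (adPow_mono le_rfl ih m).trans ((hrun j m).trans (sup_le le_rfl ?_))
      refine le_trans ((adPow_mono le_rfl le_top m).trans hS.le) bot_le
  exact le_bot_iff.1 ((hall n).trans hI.le)

theorem brk_sup_left_le {A B C D : AddSubgroup L} (hA : brk A C ≤ D) (hB : brk B C ≤ D) :
    brk (A ⊔ B) C ≤ D := brk_le fun a ha c hc => by
  suffices h : A ⊔ B ≤ D.comap (lieR c) from h ha
  exact sup_le (fun x hx => hA (lie_mem_brk hx hc)) (fun x hx => hB (lie_mem_brk hx hc))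

theorem brk_comm (A B : AddSubgroup L) : brk A B ≤ brk B A :=
  brk_le fun _ ha _ hb => lie_mem_symm (lie_mem_brk hb ha)

/-- Adding finitely many subgroups, each normalizing the sum of the previous ones. -/
theorem AdNil.sup_finset {ι : Type*} {I : AddSubgroup L} {n m : ℕ} (hI : AdNil I n)
    (S : ι → AddSubgroup L) (hS : ∀ i, AdNil (S i) m) (s : Finset ι)
    (hn : ∀ i ∈ s, ∀ t ⊆ s, brk (S i) (I ⊔ t.sup S) ≤ I ⊔ t.sup S) :
    AdNil (I ⊔ s.sup S) (n * m ^ s.card) := by
  classical
  induction s using Finset.induction with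
  | empty => simpa using hI
  | @insert a s ha ih =>
    rw [Finset.sup_insert, Finset.card_insert_of_notMem ha, sup_comm (S a), ← sup_assoc, pow_succ,
      ← mul_assoc]
    exact (ih fun i hi t ht => hn i (Finset.mem_insert_of_mem hi) t
      (ht.trans (Finset.subset_insert _ _))).sup (hS a)
      (hn a (Finset.mem_insert_self _ _) s (Finset.subset_insert _ _))

theorem brk_finset_sup_le {ι : Type*} (S : AddSubgroup L) (T : ι → AddSubgroup L) (s : Finset ι)
    {D : AddSubgroup L} (h : ∀ i ∈ s, brk S (T i) ≤ D) : brk S (s.sup T) ≤ D :=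
  brk_le fun a ha b hb => by
    suffices h' : s.sup T ≤ D.comap (lieL a) from h' hb
    exact Finset.sup_le fun i hi x hx => h i hi (lie_mem_brk ha hx)

end Cfsg.Agent.Lib.RankFixedClass
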