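import Cfsg.Agent.Lib.Kreknin.Algebra

/-!
# `ℤ/p`-graded Lie rings whose zero component acts nilpotently

If `e`-fold brackets with the zero component kill everything then the derived length is bounded in
terms of `p` and `e`.

Kreknin's induction is run modulo `⁅C 0, C (k + 1)⁆`; substituting the result into itself `e` times
removes that term.
-/

set_option autoImplicit false

namespace Cfsg.Agent.Lib.RankFixedClass

open Kreknin

variable {L : Type*} [LieRing L] {p : ℕ}

/-- `hit C n k` is spanned by `⁅h₁, ⁅h₂, … ⁅hₙ, x⁆⁆⁆` with `hᵢ ∈ C 0`, `x ∈ C k`. -/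
def hit (C : ZMod p → AddSubgroup L) : ℕ → ZMod p → AddSubgroup L
  | 0, k => C k
  | n + 1, k => brk (C 0) (hit C n k)

theorem hit_mono {B C : ZMod p → AddSubgroup L} (h : ∀ i, B i ≤ C i) :
    ∀ (n : ℕ) (k : ZMod p), hit B n k ≤ hit C n k
  | 0, k => h k
  | n + 1, k => brk_mono (h 0) (hit_mono h n k)

/-- Monomials in the `C j`, `k < j`, and `C 0`. -/
inductive GenZ (C : ZMod p → AddSubgroup L) (k : ℕ) : ZMod p → L → Prop
  | zero {x : L} : x ∈ C 0 → GenZ C k 0 x
  | base {j : ZMod p} {x : L} : k < j.val → x ∈ C j → GenZ C k j x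
  | br {i j : ZMod p} {x y : L} : GenZ C k i x → GenZ C k j y → GenZ C k (i + j) ⁅x, y⁆

/-- The components of the subring generated by `C 0` and the `C j`, `k < j`. -/
def spanZ (C : ZMod p → AddSubgroup L) (k : ℕ) (i : ZMod p) : AddSubgroup L :=
  AddSubgroup.closure {x | GenZ C k i x}

theorem mem_spanZ {C : ZMod p → AddSubgroup L} {k : ℕ} {i : ZMod p} {x : L} (h : GenZ C k i x) :
    x ∈ spanZ C k i := AddSubgroup.subset_closure h

theorem lie_mem_spanZ {C : ZMod p → AddSubgroup L} {k : ℕ} {i j : ZMod p} {x y : L}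
    (hx : x ∈ spanZ C k i) (hy : y ∈ spanZ C k j) : ⁅x, y⁆ ∈ spanZ C k (i + j) := by
  suffices h : spanZ C k i ≤ (spanZ C k (i + j)).comap (lieR y) from h hx
  rw [spanZ, AddSubgroup.closure_le]
  intro u hu
  suffices h : spanZ C k j ≤ (spanZ C k (i + j)).comap (lieL u) from h hy
  rw [spanZ, AddSubgroup.closure_le]
  intro v hv
  exact mem_spanZ (GenZ.br hu hv)

theorem GenZ.mem {C : ZMod p → AddSubgroup L} (hC : IsGraded C) {k : ℕ} {i : ZMod p} {x : L}
    (h : GenZ C k i x) : x ∈ C i := by
  induction h with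
  | zero h => exact h
  | base _ h => exact h
  | br _ _ ha hb => exact hC.lie_mem ha hb

theorem spanZ_mono_of {B C : ZMod p → AddSubgroup L} {k k' : ℕ} (h0 : B 0 ≤ C 0)
    (h : ∀ j : ZMod p, k < j.val → B j ≤ spanZ C k' j) (i : ZMod p) :
    spanZ B k i ≤ spanZ C k' i := by
  rw [spanZ, AddSubgroup.closure_le]
  intro x hx
  change x ∈ spanZ C k' i
  induction hx with
  | zero hx => exact mem_spanZ (GenZ.zero (h0 hx))
  | base hj hx => exact h _ hj hx
  | br _ _ ha hb => exact lie_mem_spanZ ha hb

theorem spanZ_mono {B C : ZMod p → AddSubgroup L} (h : ∀ i, B i ≤ C i) (k : ℕ) (i : ZMod p) :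
    spanZ B k i ≤ spanZ C k i :=
  spanZ_mono_of (h 0) (fun j hj x hx => mem_spanZ (GenZ.base hj (h j hx))) i

variable [hp : Fact p.Prime]

/-- Right multiples of a monomial are sums of monomials with last factor a generator. -/
theorem lie_genZ_mem_tail {C : ZMod p → AddSubgroup L} (hC : IsGraded C) {k : ℕ} {d : ZMod p}
    {z : L} (hz : GenZ C k d z) :
    ∀ {i : ZMod p} {y : L}, y ∈ C i →
      ⁅y, z⁆ ∈ ⨆ (j : ZMod p) (_ : j = 0 ∨ k < j.val), brk (C (i + d - j)) (C j) := by
  induction hz with
  | @zero x hx =>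
    intro i y hy
    exact AddSubgroup.mem_iSup_of_mem 0 (AddSubgroup.mem_iSup_of_mem (Or.inl rfl)
      (lie_mem_brk (by rwa [add_zero, sub_zero]) hx))
  | @base j x hj hx =>
    intro i y hy
    exact AddSubgroup.mem_iSup_of_mem j (AddSubgroup.mem_iSup_of_mem (Or.inr hj)
      (lie_mem_brk (by rwa [add_sub_cancel_right]) hx))
  | @br i' j' x x' hx hx' ih ih' =>
    intro i y hy
    rw [leibniz_lie]
    refine add_mem ?_ ?_
    · rw [← add_assoc]; exact ih' (hC.lie_mem hy (GenZ.mem hC hx))
    · rw [← lie_skew, show i + (i' + j') = i + j' + i' by abel]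
      exact neg_mem (ih (hC.lie_mem hy (GenZ.mem hC hx')))

/-- Kreknin's step, modulo `⁅C 0, C (k + 1)⁆`. -/
theorem brk_spanZ_le {C : ZMod p → AddSubgroup L} (hC : IsGraded C) {k : ℕ} (hk : k + 1 < p)
    (i : ZMod p) :
    brk (C i) (spanZ C k (((k + 1 : ℕ) : ZMod p) - i)) ≤
      spanZ C (k + 1) ((k + 1 : ℕ) : ZMod p) ⊔ brk (C 0) (C ((k + 1 : ℕ) : ZMod p)) := by
  set t : ZMod p := ((k + 1 : ℕ) : ZMod p) with ht
  have h1 : brk (C i) (spanZ C k (t - i)) ≤
      ⨆ (j : ZMod p) (_ : j = 0 ∨ k < j.val), brk (C (t - j)) (C j) := by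
    refine brk_le fun a ha b hb => ?_
    suffices h : spanZ C k (t - i) ≤
        (⨆ (j : ZMod p) (_ : j = 0 ∨ k < j.val), brk (C (t - j)) (C j)).comap (lieL a) from h hb
    rw [spanZ, AddSubgroup.closure_le]
    intro v hv
    have h2 := lie_genZ_mem_tail hC hv ha
    rwa [add_sub_cancel] at h2
  refine h1.trans (iSup₂_le fun j hj => ?_)
  rcases hj with rfl | hj
  · rw [sub_zero]
    exact le_sup_of_le_right (brk_le fun a ha b hb => lie_mem_symm (lie_mem_brk hb ha))
  rcases eq_or_lt_of_le (Nat.succ_le_of_lt hj) with h | h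
  · have hjk : j = t := by rw [ht, ← ZMod.natCast_zmod_val j, ← h]
    rw [hjk, sub_self]
    exact le_sup_right
  · refine le_sup_of_le_left (brk_le fun a ha b hb => ?_)
    have hval : k + 1 < (t - j).val := by
      have hjp := ZMod.val_lt j
      have he : (t - j) = ((p + (k + 1) - j.val : ℕ) : ZMod p) := by
        rw [Nat.cast_sub (by omega : j.val ≤ p + (k + 1)), Nat.cast_add p, ZMod.natCast_self,
          zero_add, ZMod.natCast_zmod_val]
      rw [he, ZMod.val_natCast, Nat.mod_eq_of_lt (by omega)]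
      omega
    have h2 := mem_spanZ (GenZ.br (GenZ.base hval ha) (GenZ.base h hb))
    rwa [sub_add_cancel] at h2

/-- The derived length needed at stage `k`. -/
def stage (e : ℕ) : ℕ → ℕ
  | 0 => 0
  | k + 1 => stage e k + e * (stage e k + 1)

theorem der_le_spanZ (e : ℕ) : ∀ k : ℕ, k < p → ∀ C : ZMod p → AddSubgroup L, IsGraded C →
    (∀ i, hit C e i = ⊥) → ∀ i, der C (stage e k) i ≤ spanZ C k i
  | 0, _, C, _, _, i => by
    intro x hx
    by_cases hi : i = 0
    · subst hi; exact mem_spanZ (GenZ.zero hx)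
    · exact mem_spanZ (GenZ.base (Nat.pos_of_ne_zero ((ZMod.val_ne_zero i).2 hi)) hx)
  | k + 1, hk, C, hC, he, i => by
    set f := stage e k with hf
    set t : ZMod p := ((k + 1 : ℕ) : ZMod p) with ht
    -- one application, to any graded subfamily
    have one : ∀ B : ZMod p → AddSubgroup L, IsGraded B → (∀ i, B i ≤ C i) →
        der B (f + 1) t ≤ spanZ C (k + 1) t ⊔ brk (B 0) (B t) := by
      intro B hB hBC
      have ih := der_le_spanZ e k (by omega) B hB fun i =>
        le_bot_iff.1 ((hit_mono hBC e i).trans (he i).le)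
      rw [der_succ]
      refine iSup_le fun i' => ?_
      refine (brk_mono (der_le hB f i') (ih _)).trans ((brk_spanZ_le hB hk i').trans ?_)
      exact sup_le_sup_right (spanZ_mono hBC _ _) _
    -- substituting it into itself
    have iter : ∀ j : ℕ, der C (j * (f + 1)) t ≤ spanZ C (k + 1) t ⊔ hit C j t := by
      intro j
      induction j with
      | zero => rw [Nat.zero_mul, der_zero]; exact le_sup_right
      | succ j ih =>
        rw [Nat.succ_mul, add_comm (j * (f + 1)), der_add]
        refine (one _ (isGraded_der hC _) (der_le hC _)).trans (sup_le le_sup_left ?_)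
        refine (brk_mono (der_le hC _ 0) ih).trans (brk_le fun h hh x hx => ?_)
        suffices h' : spanZ C (k + 1) t ⊔ hit C j t ≤
            (spanZ C (k + 1) t ⊔ hit C (j + 1) t).comap (lieL h) from h' hx
        refine sup_le (fun y hy => AddSubgroup.mem_sup_left ?_)
          (fun y hy => AddSubgroup.mem_sup_right (lie_mem_brk hh hy))
        have h2 := lie_mem_spanZ (mem_spanZ (GenZ.zero (C := C) (k := k + 1) hh)) hy
        rwa [zero_add] at h2
    have key : der C (e * (f + 1)) t ≤ spanZ C (k + 1) t := by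
      refine (iter e).trans ?_
      rw [he, sup_bot_eq]
    change der C (f + e * (f + 1)) i ≤ spanZ C (k + 1) i
    rw [der_add]
    refine (der_le_spanZ e k (by omega) _ (isGraded_der hC _) (fun i =>
      le_bot_iff.1 ((hit_mono (der_le hC _) e i).trans (he i).le)) i).trans
      (spanZ_mono_of (der_le hC _ 0) (fun j hj => ?_) i)
    rcases eq_or_lt_of_le (Nat.succ_le_of_lt hj) with h | h
    · have hjk : j = t := by rw [ht, ← ZMod.natCast_zmod_val j, ← h]
      rw [hjk]; exact key
    · exact fun x hx => mem_spanZ (GenZ.base h (der_le hC _ j hx))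

/-- The derived length bound. -/
def gradedBound (p e : ℕ) : ℕ := stage e (p - 1) + e

/-- A graded Lie ring whose zero component acts nilpotently is soluble of bounded length. -/
theorem der_eq_bot {e : ℕ} {C : ZMod p → AddSubgroup L} (hC : IsGraded C)
    (he : ∀ i, hit C e i = ⊥) (i : ZMod p) : der C (gradedBound p e) i = ⊥ := by
  have hs : ∀ i, spanZ C (p - 1) i ≤ if i = 0 then C 0 else ⊥ := by
    intro i
    rw [spanZ, AddSubgroup.closure_le]
    intro x hx
    change x ∈ if i = 0 then C 0 else ⊥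
    suffices h : i = 0 ∧ x ∈ C 0 by rw [if_pos h.1]; exact h.2
    induction hx with
    | zero hx => exact ⟨rfl, hx⟩
    | @base j x hj _ => have := ZMod.val_lt j; omega
    | @br a b x y _ _ ha hb =>
      exact ⟨by rw [ha.1, hb.1, add_zero], by simpa using hC.lie_mem ha.2 hb.2⟩
  set f := stage e (p - 1) with hf
  have h0 : ∀ i, der C f i ≤ if i = 0 then C 0 else ⊥ := fun i =>
    (der_le_spanZ e (p - 1) (by have := hp.out.pos; omega) C hC he i).trans (hs i)
  have h1 : ∀ n : ℕ, ∀ i, der C (n + f) i ≤ if i = 0 then hit C n 0 else ⊥ := by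
    intro n
    induction n with
    | zero => intro i; rw [Nat.zero_add]; exact h0 i
    | succ n ih =>
      intro i
      rw [Nat.succ_add, der_succ]
      refine mul_le fun a b hab x hx y hy => ?_
      by_cases ha : a = 0
      · by_cases hb : b = 0
        · subst ha hb
          rw [← hab, add_zero, if_pos rfl]
          have hy' := ih 0 hy
          rw [if_pos rfl] at hy'
          exact lie_mem_brk (der_le hC _ 0 hx) hy'
        · have hy' := ih b hy
          rw [if_neg hb, AddSubgroup.mem_bot] at hy'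
          rw [hy', lie_zero]; exact zero_mem _
      · have hx' := ih a hx
        rw [if_neg ha, AddSubgroup.mem_bot] at hx'
        rw [hx', zero_lie]; exact zero_mem _
  have h2 := h1 e i
  rw [he, ite_self, add_comm] at h2
  exact le_bot_iff.1 h2

end Cfsg.Agent.Lib.RankFixedClass
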