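import Cfsg.Agent.Lib.Kreknin.Extend
import Cfsg.Agent.Lib.RankFixedClass.Graded
import Cfsg.Agent.Lib.RankFixedClass.AdPow

/-!
# Lie rings with an automorphism of prime order whose fixed points act nilpotently

`derAll_eq_bot`: the derived length is bounded. Scalars are extended by a root of unity.
-/

set_option autoImplicit false

open scoped TensorProduct

namespace Cfsg.Agent.Lib.RankFixedClass

open Kreknin

/-- The derived series of a Lie ring, as additive subgroups. -/
def derAll (L : Type*) [LieRing L] : ℕ → AddSubgroup L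
  | 0 => ⊤
  | n + 1 => brk (derAll L n) (derAll L n)

variable {p : ℕ} [hp : Fact p.Prime]

theorem derAll_eq_bot_aux {R : Type*} [CommRing R] [IsDomain R] (ω : R) (hω : ω ^ p = 1)
    (hω1 : ω ≠ 1) (ε : R →+ ℤ) (hε : ε 1 = 1) {L : Type*} [LieRing L]
    (a : L →+ L) (halie : ∀ x y, a ⁅x, y⁆ = ⁅a x, a y⁆) (hap : ∀ x, (⇑a)^[p] x = x)
    {m : ℕ} (hm : ∀ x : L, (m : ℤ) • x = 0) (hcop : m.Coprime p)
    (F : AddSubgroup L) (hF : ∀ x, a x = x → x ∈ F) {e : ℕ} (hnil : AdNil F e) :
    derAll L (gradedBound p e) = ⊥ := by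
  classical
  letI : LieRing (R ⊗[ℤ] L) := LieAlgebra.ExtendScalars.instLieRing ℤ R L
  have lzero : ∀ x : R ⊗[ℤ] L, ⁅x, (0 : R ⊗[ℤ] L)⁆ = 0 := fun x => lie_zero x
  have ladd : ∀ x y z : R ⊗[ℤ] L, ⁅x, y + z⁆ = ⁅x, y⁆ + ⁅x, z⁆ := fun x y z => lie_add x y z
  let A : (R ⊗[ℤ] L) →ₗ[R] (R ⊗[ℤ] L) := a.toIntLinearMap.baseChange R
  have hAt : ∀ (r : R) (x : L), A (r ⊗ₜ x) = r ⊗ₜ a x := fun r x => LinearMap.baseChange_tmul (R := ℤ) (A := R) (f := a.toIntLinearMap) r x
  have hAlie : ∀ x y : R ⊗[ℤ] L, A ⁅x, y⁆ = ⁅A x, A y⁆ := by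
    intro x y
    induction x using TensorProduct.induction_on with
    | zero => simp
    | add x x' hx hx' => simp [hx, hx']
    | tmul r u =>
      induction y using TensorProduct.induction_on with
      | zero => simp only [map_zero, lzero]
      | add y y' hy hy' => simp only [map_add, ladd, hy, hy']
      | tmul s v => simp [hAt, halie]
  have hAit : ∀ (j : ℕ) (r : R) (x : L), (⇑A)^[j] (r ⊗ₜ x) = r ⊗ₜ (⇑a)^[j] x := by
    intro j
    induction j with
    | zero => intro r x; rfl
    | succ j ih => intro r x; rw [Function.iterate_succ_apply', Function.iterate_succ_apply', ih, hAt]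
  have hAadd : ∀ (j : ℕ) (x y : R ⊗[ℤ] L), (⇑A)^[j] (x + y) = (⇑A)^[j] x + (⇑A)^[j] y := by
    intro j
    induction j with
    | zero => intro x y; rfl
    | succ j ih => intro x y; simp only [Function.iterate_succ_apply', ih, map_add]
  have hA0 : ∀ j : ℕ, (⇑A)^[j] 0 = 0 := by
    intro j
    induction j with
    | zero => rfl
    | succ j ih => rw [Function.iterate_succ_apply', ih, map_zero]
  have hAp : ∀ x, (⇑A)^[p] x = x := by
    intro x
    induction x using TensorProduct.induction_on with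
    | zero => exact hA0 p
    | add x y hx hy => rw [hAadd, hx, hy]
    | tmul r u => rw [hAit, hap]
  have hm' : ∀ x : R ⊗[ℤ] L, (m : ℤ) • x = 0 := by
    intro x
    induction x using TensorProduct.induction_on with
    | zero => simp
    | add x y hx hy => rw [smul_add, hx, hy, add_zero]
    | tmul r u => rw [← TensorProduct.tmul_smul, hm, TensorProduct.tmul_zero]
  obtain ⟨u, v, huv⟩ : ∃ u v : ℤ, u * p + v * m = 1 :=
    ⟨Nat.gcdB m p, Nat.gcdA m p, by
      have := Nat.gcd_eq_gcd_ab m p
      rw [hcop.gcd_eq_one] at this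
      linear_combination -this⟩
  have hdiv : ∀ x : R ⊗[ℤ] L, x = u • (p • x) := by
    intro x
    calc x = (u * p + v * m : ℤ) • x := by rw [huv, one_zsmul]
      _ = u • (p • x) := by
        rw [add_smul, mul_smul, mul_smul, hm', smul_zero, add_zero, natCast_zsmul]
  have hωmod : ∀ k : ℕ, ω ^ k = ω ^ (k % p) := by
    intro k
    conv_lhs => rw [← Nat.mod_add_div k p, pow_add, pow_mul, hω, one_pow, mul_one]
  let C : ZMod p → AddSubgroup (R ⊗[ℤ] L) := fun i =>
    (LinearMap.ker (A - ω ^ i.val • LinearMap.id)).toAddSubgroup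
  have hmemC : ∀ i x, x ∈ C i ↔ A x = ω ^ i.val • x := fun i x => by
    simp [C, LinearMap.mem_ker, sub_eq_zero]
  have hgr : IsGraded C := fun i j => brk_le fun x hx y hy => by
    rw [hmemC] at hx hy ⊢
    rw [hAlie, hx, hy]
    calc _ = ω ^ i.val • ⁅x, ω ^ j.val • y⁆ := smul_lie (ω ^ i.val) x (ω ^ j.val • y)
      _ = ω ^ i.val • (ω ^ j.val • ⁅x, y⁆) := congrArg _ (lie_smul (ω ^ j.val) x y)
      _ = _ := by rw [smul_smul, ← pow_add, hωmod (i.val + j.val), ZMod.val_add]
  let ι : L →+ R ⊗[ℤ] L := (TensorProduct.mk ℤ R L 1).toAddMonoidHom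
  let T : AddSubgroup L → AddSubgroup (R ⊗[ℤ] L) := fun S =>
    AddSubgroup.closure {z | ∃ (r : R) (u : L), u ∈ S ∧ z = r ⊗ₜ[ℤ] u}
  have hC0 : C 0 ≤ T F := by
    intro x hx
    rw [hmemC, ZMod.val_zero, pow_zero, one_smul] at hx
    have h1 : ∀ j, (⇑A)^[j] x = x := fun j => Function.iterate_fixed hx j
    rw [hdiv x]
    refine zsmul_mem ?_ u
    rw [show p • x = ∑ j ∈ Finset.range p, (⇑A)^[j] x by simp [h1]]
    clear hx h1
    induction x using TensorProduct.induction_on with
    | zero => simp only [hA0, Finset.sum_const_zero]; exact zero_mem _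
    | add x y hx hy => simp only [hAadd, Finset.sum_add_distrib]; exact add_mem hx hy
    | tmul r w =>
      simp only [hAit, ← TensorProduct.tmul_sum]
      refine AddSubgroup.subset_closure ⟨r, _, hF _ ?_, rfl⟩
      rw [map_sum]
      simp only [← Function.iterate_succ_apply' (⇑a)]
      have h2 := Finset.sum_range_succ' (fun j => (⇑a)^[j] w) p
      rw [Finset.sum_range_succ] at h2
      simp only [hap, Function.iterate_zero_apply] at h2
      exact (add_right_cancel h2).symm
  have hord : ∀ k : ℕ, k % p ≠ 0 → ω ^ k ≠ 1 := by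
    intro k hk h
    have h1 : orderOf ω = p := orderOf_eq_prime hω hω1
    have h2 := orderOf_dvd_of_pow_eq_one h
    rw [h1] at h2
    exact hk (Nat.mod_eq_zero_of_dvd h2)
  have hsum : ⨆ i, C i = ⊤ := by
    rw [eq_top_iff]
    intro x _
    let e : ℕ → R ⊗[ℤ] L := fun i => ∑ j ∈ Finset.range p, ω ^ ((p - i) * j) • (⇑A)^[j] x
    have he : ∀ i < p, e i ∈ C (i : ZMod p) := by
      intro i hi
      rw [hmemC, ZMod.val_natCast, Nat.mod_eq_of_lt hi]
      simp only [e, map_sum, map_smul, Finset.smul_sum, smul_smul]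
      have hfp : ω ^ i • (ω ^ ((p - i) * p) • (⇑A)^[p] x) = ω ^ i • (ω ^ ((p - i) * 0) • (⇑A)^[0] x) := by
        rw [hAp, mul_comm (p - i) p, pow_mul, hω, one_pow, mul_zero, pow_zero]; rfl
      have hshift : ∀ j, ω ^ ((p - i) * j) • A ((⇑A)^[j] x) =
          ω ^ i • (ω ^ ((p - i) * (j + 1)) • (⇑A)^[j + 1] x) := by
        intro j
        rw [Function.iterate_succ_apply', smul_smul (ω ^ i), ← pow_add]
        congr 1
        rw [Nat.mul_succ, show i + ((p - i) * j + (p - i)) = (p - i) * j + p by omega, pow_add, hω,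
          mul_one]
      rw [Finset.sum_congr rfl fun j _ => hshift j]
      have h := Finset.sum_range_succ' (fun j => ω ^ i • (ω ^ ((p - i) * j) • (⇑A)^[j] x)) p
      rw [Finset.sum_range_succ, hfp] at h
      rw [← add_right_cancel h]
      simp only [smul_smul]
    have hpx : ∑ i ∈ Finset.range p, e i = p • x := by
      simp only [e]
      rw [Finset.sum_comm]
      simp only [← Finset.sum_smul]
      rw [Finset.sum_eq_single 0]
      · simp [Nat.cast_smul_eq_nsmul]
      · intro j hj hj0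
        have hjp := Finset.mem_range.1 hj
        have hz : ω ^ j ≠ 1 := hord j (by rw [Nat.mod_eq_of_lt hjp]; exact hj0)
        set ζ := ω ^ j with hζ
        have hζp : ζ ^ p = 1 := by rw [hζ, ← pow_mul, mul_comm, pow_mul, hω, one_pow]
        have hrefl : ∑ i ∈ Finset.range p, ω ^ ((p - i) * j) = ∑ i ∈ Finset.range p, ζ ^ (i + 1) := by
          rw [← Finset.sum_range_reflect]
          refine Finset.sum_congr rfl fun i hi => ?_
          have := Finset.mem_range.1 hi
          rw [hζ, ← pow_mul, mul_comm j]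
          congr 2
          omega
        have hg : ∑ i ∈ Finset.range p, ζ ^ (i + 1) = 0 := by
          have h := geom_sum_mul ζ p
          rw [hζp, sub_self] at h
          rcases mul_eq_zero.1 h with h | h
          · simp only [pow_succ, ← Finset.sum_mul, h, zero_mul]
          · exact absurd (sub_eq_zero.1 h) hz
        rw [hrefl, hg, zero_smul]
      · intro h; exact absurd (Finset.mem_range.2 hp.out.pos) h
    rw [hdiv x, ← hpx]
    exact zsmul_mem (sum_mem fun i hi => AddSubgroup.mem_iSup_of_mem _ (he i (Finset.mem_range.1 hi))) u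
  have hhit : ∀ i, hit C e i = ⊥ := by
    have h1 : ∀ n i, hit C n i ≤ T (adPow F ⊤ n) := by
      intro n
      induction n with
      | zero =>
        intro i x hxi
        clear hxi
        induction x using TensorProduct.induction_on with
        | zero => exact zero_mem _
        | add x y hx hy => exact add_mem hx hy
        | tmul r w => exact AddSubgroup.subset_closure ⟨r, w, AddSubgroup.mem_top _, rfl⟩
      | succ n ih =>
        intro i
        refine brk_le fun x hx y hy => ?_
        suffices h : T F ≤ (T (adPow F ⊤ (n + 1))).comap (lieR y) from h (hC0 hx)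
        refine (AddSubgroup.closure_le _).2 ?_
        rintro _ ⟨r, v, hv, rfl⟩
        suffices h : T (adPow F ⊤ n) ≤ (T (adPow F ⊤ (n + 1))).comap (lieL (r ⊗ₜ[ℤ] v)) from
          h (ih i hy)
        refine (AddSubgroup.closure_le _).2 ?_
        rintro _ ⟨s, w, hw, rfl⟩
        exact AddSubgroup.subset_closure ⟨r * s, ⁅v, w⁆, lie_mem_brk hv hw,
          LieAlgebra.ExtendScalars.bracket_tmul ℤ R L L r s v w⟩
    intro i
    refine le_bot_iff.1 ((h1 e i).trans ((AddSubgroup.closure_le _).2 ?_))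
    rintro _ ⟨r, v, hv, rfl⟩
    rw [hnil, AddSubgroup.mem_bot] at hv
    rw [hv, TensorProduct.tmul_zero]
    exact zero_mem _
  have hι : ∀ x, ι x = (1 : R) ⊗ₜ x := fun x => rfl
  have hle : ∀ k, derAll L k ≤ (⨆ i, der C k i).comap ι := by
    intro k
    induction k with
    | zero =>
      intro x _
      change ι x ∈ ⨆ i, C i
      rw [hsum]
      exact AddSubgroup.mem_top _
    | succ k ih =>
      refine brk_le fun y hy z hz => ?_
      rw [AddSubgroup.mem_comap, hι]
      have e' : ⁅ι y, ι z⁆ = (1 : R) ⊗ₜ[ℤ] ⁅y, z⁆ := by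
        calc ⁅ι y, ι z⁆ = ((1 : R) * 1) ⊗ₜ[ℤ] ⁅y, z⁆ :=
              LieAlgebra.ExtendScalars.bracket_tmul ℤ R L L 1 1 y z
          _ = _ := by rw [one_mul]
      rw [← e']
      suffices h : brk (⨆ i, der C k i) (⨆ i, der C k i) ≤ ⨆ i, der C (k + 1) i from
        h (lie_mem_brk (ih hy) (ih hz))
      refine (brk_iSup_right _ _).trans (iSup_le fun j => brk_le fun x hx v hv => ?_)
      suffices h : (⨆ i, der C k i) ≤ (⨆ i, der C (k + 1) i).comap (lieR v) from h hx
      refine iSup_le fun i w hw => AddSubgroup.mem_iSup_of_mem (i + j) ?_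
      rw [der_succ]
      exact lie_mem_mul hw hv
  rw [eq_bot_iff]
  intro x hx
  have hx' := hle _ hx
  rw [AddSubgroup.mem_comap] at hx'
  simp only [der_eq_bot hgr hhit, iSup_bot, AddSubgroup.mem_bot, hι] at hx'
  have h := congrArg (TensorProduct.lift ((LinearMap.lsmul ℤ L).comp ε.toIntLinearMap)) hx'
  simpa [hε] using h

open Polynomial in
/-- The derived length is bounded when the fixed points of an automorphism of order `p` act
nilpotently. -/
theorem derAll_eq_bot {L : Type*} [LieRing L]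
    (a : L →+ L) (halie : ∀ x y, a ⁅x, y⁆ = ⁅a x, a y⁆) (hap : ∀ x, (⇑a)^[p] x = x)
    {m : ℕ} (hm : ∀ x : L, (m : ℤ) • x = 0) (hcop : m.Coprime p)
    (F : AddSubgroup L) (hF : ∀ x, a x = x → x ∈ F) {e : ℕ} (hnil : AdNil F e) :
    derAll L (gradedBound p e) = ⊥ := by
  set Φ := cyclotomic p ℤ with hΦ
  have hmonic : Φ.Monic := cyclotomic.monic p ℤ
  have hirr : Irreducible Φ := cyclotomic.irreducible hp.out.pos
  haveI : IsDomain (AdjoinRoot Φ) := AdjoinRoot.isDomain_of_prime hirr.prime
  have hroot : (cyclotomic p (AdjoinRoot Φ)).IsRoot (AdjoinRoot.root Φ) := by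
    have h := AdjoinRoot.isRoot_root Φ
    rwa [hΦ, map_cyclotomic] at h
  have hωp : (AdjoinRoot.root Φ) ^ p = 1 :=
    Polynomial.isRoot_of_unity_of_root_cyclotomic (Nat.mem_divisors_self p hp.out.pos.ne') hroot
  have hω1 : AdjoinRoot.root Φ ≠ 1 := by
    intro h
    have h1 := AdjoinRoot.mk_eq_zero (f := Φ) (g := X - C 1)
    have h2 : AdjoinRoot.mk Φ (X - C 1) = 0 := by simp [h]
    have h3 := Polynomial.natDegree_le_of_dvd (h1.1 h2) (X_sub_C_ne_zero 1)
    rw [natDegree_X_sub_C, hΦ, natDegree_cyclotomic, Nat.totient_prime hp.out] at h3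
    have hp2 : p = 2 := by have := hp.out.two_le; omega
    subst hp2
    obtain ⟨c, hc⟩ := h1.1 h2
    rw [hΦ, cyclotomic_two] at hc
    have hc1 := congrArg (Polynomial.eval (-1 : ℤ)) hc
    norm_num at hc1
  let B := (AdjoinRoot.powerBasis' hmonic).basis
  have hdim : 0 < (AdjoinRoot.powerBasis' hmonic).dim := by
    rw [AdjoinRoot.powerBasis'_dim, hΦ, natDegree_cyclotomic]
    exact Nat.totient_pos.2 hp.out.pos
  have hB0 : B ⟨0, hdim⟩ = 1 := by simp [B, PowerBasis.basis_eq_pow]
  refine derAll_eq_bot_aux (AdjoinRoot.root Φ) hωp hω1 (B.coord ⟨0, hdim⟩).toAddMonoidHom ?_ a halie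
    hap hm hcop F hF hnil
  change B.coord ⟨0, hdim⟩ 1 = 1
  rw [← hB0]
  simp

end Cfsg.Agent.Lib.RankFixedClass
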