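import Cfsg.Agent.Lib.RankFixedClass.Img
import Cfsg.Agent.Lib.RankFixedClass.Fixed

/-!
# The class of a nilpotent group covered by pieces in fixed points of subgroups of rank two

`gam_eq_bot`: a bound independent of the group.
-/

set_option autoImplicit false
set_option linter.unusedSectionVars false

namespace Cfsg.Agent.Lib.RankFixedClass

open Kreknin Subgroup
open scoped commutatorElement

/-- The derived series of a subgroup, in the ambient group. -/
def dS {G : Type*} [Group G] (S : Subgroup G) : ℕ → Subgroup G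
  | 0 => S
  | n + 1 => ⁅dS S n, dS S n⁆

theorem dS_antitone {G : Type*} [Group G] (S : Subgroup G) : ∀ n, dS S n ≤ S
  | 0 => le_rfl
  | n + 1 => (commutator_le_self _).trans (dS_antitone S n)

section

variable {A P : Type*} [CommGroup A] [Group P] [MulDistribMulAction A P]

theorem AInv.dS {S : Subgroup P} (hS : AInv A S) : ∀ n, AInv A (dS S n)
  | 0 => hS
  | n + 1 => (AInv.dS hS n).commutator (AInv.dS hS n)

/-- A covering of `P` by pieces lying in the nilpotent subgroups `T b`. -/
structure Cover (p c s : ℕ) (T : A → Subgroup P) (Fam : Set (Subgroup P)) : Prop where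
  gen : ⨆ J ∈ Fam, J = (⊤ : Subgroup P)
  inv : ∀ J ∈ Fam, AInv A J
  fix : ∀ J ∈ Fam, ∃ M : Subgroup A, MaxSub p M ∧ J ≤ fixS P M
  plane : ∀ J ∈ Fam, ∃ B : Subgroup A, p ^ 2 ≤ Nat.card B ∧ ∀ b ∈ B, b ≠ 1 → J ≤ T b
  closed : ∀ J₁ ∈ Fam, ∀ J₂ ∈ Fam, ∀ M : Subgroup A, MaxSub p M →
    ∃ J ∈ Fam, ⁅J₁, J₂⁆ ⊓ fixS P M ≤ J
  T_le : ∀ b : A, b ≠ 1 → T b ≤ fixE P b
  T_norm : ∀ b : A, b ≠ 1 → fixE P b ≤ normalizer (T b : Set P)
  T_class : ∀ b : A, b ≠ 1 → (T b).lowerCentralSeries c = ⊥
  fix_solvable : ∀ b : A, b ≠ 1 → dS (fixE P b) s = ⊥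

/-- The intersection of the `T b`, `b ∈ B`. -/
def meetT (T : A → Subgroup P) (B : Subgroup A) : Subgroup P := ⨅ b ∈ B, ⨅ _ : b ≠ 1, T b

theorem meetT_le {T : A → Subgroup P} {B : Subgroup A} {b : A} (hb : b ∈ B) (h1 : b ≠ 1) :
    meetT T B ≤ T b := iInf₂_le_of_le b hb (iInf_le _ h1)

variable {p k c s : ℕ} [hp : Fact p.Prime] [Finite A] [Finite P]
  {T : A → Subgroup P} {Fam : Set (Subgroup P)}

theorem adNil_meetT (hA : Nat.card A = p ^ k) (hk : 1 ≤ k) (hexp : ∀ a : A, a ^ p = 1)
    (hcop : (Nat.card P).Coprime p) (h : Cover p c s T Fam) {B : Subgroup A}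
    (hB : p ^ 2 ≤ Nat.card B) : AdNil (img (meetT T B)) (c + 1) := by
  refine le_bot_iff.1 ?_
  rw [← img_top]
  refine (adPow_mono le_rfl (img_le_iSup_fixS hA hk hexp hcop (aInv_top (A := A) (P := P))) _).trans ?_
  refine (adPow_iSup _ _ _).trans (iSup_le fun M => ?_)
  obtain ⟨b, hbB, hbM, hb1⟩ := M.2.exists_ne_one hB
  have key : ∀ j, adPow (img (meetT T B)) (img (⊤ ⊓ fixS P M.1)) (j + 1) ≤
      img ((T b).lowerCentralSeries j) := by
    intro j
    induction j with
    | zero =>
      refine (brk_img_le_of (le_trans (commutator_mono (meetT_le hbB hb1)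
        ((inf_le_right).trans (fixS_le_fixE hbM))) ?_))
      rw [Subgroup.lowerCentralSeries_zero, ← le_normalizer_iff_commutator_le_left]
      exact h.T_norm b hb1
    | succ j ih =>
      refine (brk_mono le_rfl ih).trans (brk_img_le_of ?_)
      rw [Subgroup.lowerCentralSeries_succ, Subgroup.commutator_comm _ (T b)]
      exact commutator_mono (meetT_le hbB hb1) le_rfl
  refine (key c).trans ?_
  rw [h.T_class b hb1, img_bot]

/-- The bound for one fixed subgroup of index `p`. -/
def e₁ (p k c : ℕ) : ℕ := (c + 1) ^ 2 ^ p ^ k * (c + 1) ^ 2 ^ p ^ k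

theorem card_subgroup_le (hA : Nat.card A = p ^ k) : Nat.card (Subgroup A) ≤ 2 ^ p ^ k := by
  haveI := Fintype.ofFinite A
  have h := Nat.card_le_card_of_injective (fun M : Subgroup A => (M : Set A)) SetLike.coe_injective
  rwa [Nat.card_eq_fintype_card (α := Set A), Fintype.card_set, ← Nat.card_eq_fintype_card, hA] at h

/-- Every `C(M)`, `M` of index `p`, acts nilpotently. -/
theorem adNil_fixS (hA : Nat.card A = p ^ k) (hk : 1 ≤ k) (hexp : ∀ a : A, a ^ p = 1)
    (hcop : (Nat.card P).Coprime p) (h : Cover p c s T Fam) {M : Subgroup A} (hM : MaxSub p M) :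
    AdNil (img (fixS P M)) (e₁ p k c) := by
  classical
  haveI : Fintype (Subgroup A) := Fintype.ofFinite _
  let piece : Subgroup A → Subgroup A → AddSubgroup (Assoc P) :=
    fun N B => img (meetT T B ⊓ fixS P N)
  let idx : Subgroup A → Finset (Subgroup A) := fun N =>
    Finset.univ.filter fun B => p ^ 2 ≤ Nat.card B ∧ B ≤ N
  let I : Subgroup A → AddSubgroup (Assoc P) := fun N => (idx N).sup (piece N)
  -- a subgroup normalizing each piece
  have hnorm : ∀ N B, B ∈ idx N → brk (img (fixS P N)) (piece N B) ≤ piece N B := by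
    intro N B hB
    simp only [idx, Finset.mem_filter, Finset.mem_univ, true_and] at hB
    refine brk_img_le_of (le_inf ?_ ?_)
    · refine le_iInf₂ fun b hb => le_iInf fun hb1 => ?_
      refine (commutator_mono (fixS_le_fixE (hB.2 hb)) (inf_le_left.trans (meetT_le hb hb1))).trans ?_
      exact le_normalizer_iff_commutator_le_right.1 (h.T_norm b hb1)
    · exact (commutator_mono le_rfl inf_le_right).trans (commutator_le_self _)
  have hI : ∀ N, AdNil (I N) ((c + 1) ^ 2 ^ p ^ k) := by
    intro N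
    have hne : ∀ B, AdNil (if B ∈ idx N then piece N B else ⊥) (c + 1) := by
      intro B
      split
      · next hB =>
        simp only [idx, Finset.mem_filter, Finset.mem_univ, true_and] at hB
        exact (adNil_meetT hA hk hexp hcop h hB.1).mono (img_mono inf_le_left) le_rfl
      · exact adNil_bot.mono le_rfl (by omega)
    have hsup : ∀ t ⊆ idx N, t.sup (fun B => if B ∈ idx N then piece N B else ⊥) = t.sup (piece N) :=
      fun t ht => Finset.sup_congr rfl fun B hB => if_pos (ht hB)
    have h1 := (adNil_bot (L := Assoc P)).sup_finset _ hne (idx N) fun i hi t ht => by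
      rw [bot_sup_eq, hsup t ht]
      refine brk_finset_sup_le _ _ _ fun j hj => ?_
      rw [if_pos hi]
      refine le_trans ((brk_mono (img_mono inf_le_right) le_rfl).trans (hnorm N j (ht hj))) ?_
      exact Finset.le_sup hj
    rw [bot_sup_eq, hsup _ subset_rfl, one_mul] at h1
    refine h1.mono le_rfl (Nat.pow_le_pow_right (Nat.succ_pos c) ((Finset.card_le_univ _).trans ?_))
    rw [← Nat.card_eq_fintype_card]
    exact card_subgroup_le hA
  have hItop : I ⊤ ≤ img (fixS P (⊤ : Subgroup A)) :=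
    Finset.sup_le fun B _ => img_mono inf_le_right
  have hcomb : AdNil (I M ⊔ I ⊤) (e₁ p k c) := (hI M).sup (hI ⊤)
    (brk_finset_sup_le _ _ _ fun B hB =>
      ((brk_mono (hItop.trans (img_mono (fixS_anti le_top))) le_rfl).trans (hnorm M B hB)).trans
        (Finset.le_sup hB))
  refine hcomb.mono (fun u hu => ?_) le_rfl
  -- the pieces cover
  have hcov : img (⊤ : Subgroup P) ≤ ⨆ J : Fam, img J.1 := by
    suffices hn : ∀ n, (gam P n) ≤ pre n (⨆ J : Fam, img J.1) from
      img_le fun n x hx _ => (hn n hx).2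
    intro n
    induction n with
    | zero =>
      intro x _
      suffices hx : (⊤ : Subgroup P) ≤ pre 0 (⨆ J : Fam, img J.1) from hx (mem_top x)
      rw [← h.gen]
      refine iSup₂_le fun J hJ y hy => ?_
      exact ⟨mem_top y, AddSubgroup.mem_iSup_of_mem ⟨J, hJ⟩ (mkL_mem_img _ hy)⟩
    | succ n ih =>
      change ⁅gam P n, (⊤ : Subgroup P)⁆ ≤ _
      rw [commutator_le]
      intro x hx y hy
      refine ⟨commutator_mem_commutator hx hy, ?_⟩
      have hW : brk (⨆ J : Fam, img J.1) (⨆ J : Fam, img J.1) ≤ ⨆ J : Fam, img J.1 := by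
        refine (brk_iSup_right _ _).trans (iSup_le fun J₂ => ?_)
        refine brk_le fun a ha b hb => ?_
        suffices h' : (⨆ J : Fam, img J.1) ≤ (⨆ J : Fam, img J.1).comap (lieR b) from h' ha
        refine iSup_le fun J₁ a' ha' => ?_
        suffices h'' : brk (img J₁.1) (img J₂.1) ≤ ⨆ J : Fam, img J.1 from h'' (lie_mem_brk ha' hb)
        refine (brk_img_le _ _).trans ((img_le_iSup_fixS hA hk hexp hcop
          ((h.inv _ J₁.2).commutator (h.inv _ J₂.2))).trans (iSup_le fun N => ?_))
        obtain ⟨J, hJ, hle⟩ := h.closed _ J₁.2 _ J₂.2 N.1 N.2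
        exact (img_mono hle).trans (le_iSup (fun J : Fam => img J.1) ⟨J, hJ⟩)
      have h0 : mkL 0 y (mem_top y) ∈ ⨆ J : Fam, img J.1 := by
        suffices hx' : (⊤ : Subgroup P) ≤ pre 0 (⨆ J : Fam, img J.1) from (hx' (mem_top y)).2
        rw [← h.gen]
        exact iSup₂_le fun J hJ z hz => ⟨mem_top z, AddSubgroup.mem_iSup_of_mem ⟨J, hJ⟩ (mkL_mem_img _ hz)⟩
      have h2 := hW (lie_mem_brk (ih hx).2 h0)
      rwa [lie_mkL (b := 0) hx (mem_top y)] at h2
  have hu' : u ∈ ⨆ J : Fam, img J.1 := hcov (img_mono le_top hu)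
  have havg : norm' P M u ∈ I M ⊔ I ⊤ := by
    suffices h' : (⨆ J : Fam, img J.1) ≤ (I M ⊔ I ⊤).comap (norm' P M) from h' hu'
    refine iSup_le fun J v hv => ?_
    have h2 := norm'_mem hA hcop (h.inv _ J.2) M hv
    obtain ⟨M', hM', hJM'⟩ := h.fix _ J.2
    obtain ⟨B, hB, hJB⟩ := h.plane _ J.2
    have hmeet : J.1 ≤ meetT T B := le_iInf₂ fun b hb => le_iInf fun hb1 => hJB b hb hb1
    rw [AddSubgroup.mem_comap]
    have htop : J.1 ⊓ fixS P M ≤ fixS P (⊤ : Subgroup A) → norm' P M v ∈ I M ⊔ I ⊤ := by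
      intro hle
      refine AddSubgroup.mem_sup_right (Finset.le_sup (f := piece ⊤) (b := B) ?_
        (img_mono (le_inf (inf_le_left.trans hmeet) hle) h2))
      simp [idx, hB]
    by_cases hBM : B ≤ M
    · refine AddSubgroup.mem_sup_left (Finset.le_sup (f := piece M) (b := B) ?_
        (img_mono (inf_le_inf_right _ hmeet) h2))
      simp [idx, hB, hBM]
    · obtain ⟨b, hbB, hbM⟩ := SetLike.not_le_iff_exists.1 hBM
      have hb1 : b ≠ 1 := fun e => hbM (e ▸ one_mem M)
      exact htop fun x hx => hM.fix_le_fix_top hA hbM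
        (mem_inf.2 ⟨(mem_inf.1 hx).2, h.T_le b hb1 (hJB b hbB hb1 (mem_inf.1 hx).1)⟩)
  rw [norm'_eq_smul (fun a ha => act_fixed ha hu)] at havg
  refine mem_of_smul_mem ?_ havg
  have h2 := coprime_card_subgroup hA hcop M (⊤ : Subgroup P)
  rwa [card_top] at h2

/-- The bound for the fixed points of one operator. -/
def e₂ (p k c s : ℕ) : ℕ := (e₁ p k c ^ 2 ^ p ^ k) ^ s

theorem e₁_pos (p k c : ℕ) : 1 ≤ e₁ p k c := by
  unfold e₁; exact Nat.mul_pos (pow_pos (Nat.succ_pos c) _) (pow_pos (Nat.succ_pos c) _)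

/-- One step up a derived series. -/
theorem adNil_step (hA : Nat.card A = p ^ k) (hk : 1 ≤ k) (hexp : ∀ a : A, a ^ p = 1)
    (hcop : (Nat.card P).Coprime p) (h : Cover p c s T Fam) {W W' : AddSubgroup (Assoc P)}
    {n : ℕ} (hW' : AdNil W' n) (hle : W' ≤ W) (hbr : brk W W ≤ W')
    (hdec : W ≤ ⨆ M : {M : Subgroup A // MaxSub p M}, W ⊓ img (fixS P M.1)) :
    AdNil W (n * e₁ p k c ^ 2 ^ p ^ k) := by
  classical
  haveI : Fintype {M : Subgroup A // MaxSub p M} := Fintype.ofFinite _
  have h1 := hW'.sup_finset (fun M : {M : Subgroup A // MaxSub p M} => W ⊓ img (fixS P M.1))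
    (fun M => (adNil_fixS hA hk hexp hcop h M.2).mono inf_le_right le_rfl) Finset.univ
    fun i _ t _ => le_sup_of_le_left
      ((brk_mono inf_le_left (sup_le hle (Finset.sup_le fun j _ => inf_le_left))).trans hbr)
  refine h1.mono ?_ (Nat.mul_le_mul_left _ (Nat.pow_le_pow_right (e₁_pos p k c) ?_))
  · rw [Finset.sup_univ_eq_iSup]
    exact hdec.trans le_sup_right
  · rw [Finset.card_univ, ← Nat.card_eq_fintype_card]
    exact (Finite.card_subtype_le _).trans (card_subgroup_le hA)

theorem adNil_fixE (hA : Nat.card A = p ^ k) (hk : 1 ≤ k) (hexp : ∀ a : A, a ^ p = 1)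
    (hcop : (Nat.card P).Coprime p) (h : Cover p c s T Fam) {a : A} (ha : a ≠ 1) :
    AdNil (img (fixE P a)) (e₂ p k c s) := by
  have key : ∀ i j, i + j = s → AdNil (img (dS (fixE P a) j)) ((e₁ p k c ^ 2 ^ p ^ k) ^ i) := by
    intro i
    induction i with
    | zero =>
      intro j hj
      rw [show j = s by omega, h.fix_solvable a ha, img_bot, pow_zero]
      exact adNil_bot
    | succ i ih =>
      intro j hj
      rw [pow_succ]
      refine adNil_step hA hk hexp hcop h (ih (j + 1) (by omega)) (img_mono (commutator_le_self _))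
        (brk_img_le _ _) ?_
      refine (img_le_iSup_fixS hA hk hexp hcop (AInv.dS (aInv_fixE a) j)).trans
        (iSup_mono fun M => le_inf (img_mono inf_le_left) (img_mono inf_le_right))
  exact key s 0 (by omega)

/-- Homogeneous elements of the derived terms. -/
theorem derAll_homogeneous : ∀ j : ℕ, derAll (Assoc P) j ≤
    AddSubgroup.closure {z | ∃ (n : ℕ) (x : P) (hx : x ∈ gam P n),
      z = mkL n x hx ∧ z ∈ derAll (Assoc P) j}
  | 0 => by
    change (⊤ : AddSubgroup (Assoc P)) ≤ _
    rw [← img_top]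
    exact img_le fun n x hx _ => AddSubgroup.subset_closure ⟨n, x, hx, rfl, AddSubgroup.mem_top _⟩
  | j + 1 => brk_le fun u hu v hv => by
    refine (?_ : brk (AddSubgroup.closure _) (AddSubgroup.closure _) ≤ _)
      (lie_mem_brk (derAll_homogeneous j hu) (derAll_homogeneous j hv))
    refine brk_le fun a ha b hb => ?_
    induction ha using AddSubgroup.closure_induction with
    | zero => rw [zero_lie]; exact zero_mem _
    | add x y _ _ h1 h2 => rw [add_lie]; exact add_mem h1 h2
    | neg x _ h1 => rw [neg_lie]; exact neg_mem h1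
    | mem x hx =>
      induction hb using AddSubgroup.closure_induction with
      | zero => rw [lie_zero]; exact zero_mem _
      | add y z _ _ h1 h2 => rw [lie_add]; exact add_mem h1 h2
      | neg y _ h1 => rw [lie_neg]; exact neg_mem h1
      | mem y hy =>
        obtain ⟨n, g, hg, rfl, hgj⟩ := hx
        obtain ⟨m, g', hg', rfl, hgj'⟩ := hy
        exact AddSubgroup.subset_closure ⟨_, _, comm_mem hg hg', lie_mkL hg hg', lie_mem_brk hgj hgj'⟩

theorem derAll_invariant (a : A) : ∀ (j : ℕ), ∀ u ∈ derAll (Assoc P) j, act P a u ∈ derAll (Assoc P) j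
  | 0, _, _ => AddSubgroup.mem_top _
  | j + 1, u, hu => by
    suffices h : derAll (Assoc P) (j + 1) ≤ (derAll (Assoc P) (j + 1)).comap (act P a) from h hu
    refine brk_le fun x hx y hy => ?_
    rw [AddSubgroup.mem_comap]
    change assocMap _ ⁅x, y⁆ ∈ _
    rw [assocMap_lie]
    exact lie_mem_brk (derAll_invariant a j x hx) (derAll_invariant a j y hy)

/-- The class bound. -/
def classBound (p k c s : ℕ) : ℕ := (e₁ p k c ^ 2 ^ p ^ k) ^ gradedBound p (e₂ p k c s)

/-- **The class of a covered nilpotent group is bounded.** -/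
theorem gam_eq_bot (hA : Nat.card A = p ^ k) (hk : 1 ≤ k) (hexp : ∀ a : A, a ^ p = 1)
    (hcop : (Nat.card P).Coprime p) [hnil : Group.IsNilpotent P] (h : Cover p c s T Fam) :
    gam P (classBound p k c s) = ⊥ := by
  obtain ⟨a, ha⟩ : ∃ a : A, a ≠ 1 := by
    haveI : Nontrivial A := Finite.one_lt_card_iff_nontrivial.1 (by
      rw [hA]; exact Nat.one_lt_pow (by omega) hp.out.one_lt)
    exact exists_ne 1
  have hit : ∀ (j : ℕ) (u : Assoc P), (⇑(act P a))^[j] u = act P (a ^ j) u := by
    intro j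
    induction j with
    | zero =>
      intro u
      rw [Function.iterate_zero_apply, pow_zero]
      refine (DFunLike.congr_fun (ext_mkL (f := act P (1 : A)) (g := AddMonoidHom.id _) fun n x hx => ?_) u).symm
      rw [act_mkL]; exact mkL_congr rfl (one_smul A x) _
    | succ j ih =>
      intro u
      rw [Function.iterate_succ_apply', ih]
      refine DFunLike.congr_fun (ext_mkL (f := (act P a).comp (act P (a ^ j))) (g := act P (a ^ (j + 1)))
        fun n x hx => ?_) u
      rw [AddMonoidHom.comp_apply, act_mkL, act_mkL, act_mkL]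
      exact mkL_congr rfl (by rw [pow_succ', mul_smul]) _
  have hap : ∀ u, (⇑(act P a))^[p] u = u := fun u => by
    rw [hit, hexp a, ← pow_zero a, ← hit]; rfl
  have hsol : derAll (Assoc P) (gradedBound p (e₂ p k c s)) = ⊥ := by
    refine derAll_eq_bot (act P a) (fun x y => assocMap_lie _ x y) hap
      (m := Nat.card P) (fun u => by rw [natCast_zsmul, card_smul_eq_zero]) hcop
      (img (fixS P (zpowers a))) (fun u hu => ?_)
      ((adNil_fixE hA hk hexp hcop h ha).mono (img_mono (fixS_le_fixE (mem_zpowers a))) le_rfl)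
    have h2 := mem_img_fixS hA hcop (aInv_top (A := A) (P := P)) (zpowers a) (u := u)
      (by rw [img_top]; exact AddSubgroup.mem_top _) fun b hb => by
        obtain ⟨j, rfl⟩ := (Submonoid.mem_powers_iff _ _).1 (mem_powers_iff_mem_zpowers.2 hb)
        rw [← hit]
        exact Function.iterate_fixed hu j
    rwa [top_inf_eq] at h2
  set f := gradedBound p (e₂ p k c s) with hf
  have key : ∀ i j, i + j = f → AdNil (derAll (Assoc P) j) ((e₁ p k c ^ 2 ^ p ^ k) ^ i) := by
    intro i
    induction i with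
    | zero =>
      intro j hj
      rw [show j = f by omega, hsol, pow_zero]
      exact adNil_bot
    | succ i ih =>
      intro j hj
      rw [pow_succ]
      have hanti : ∀ i, derAll (Assoc P) (i + 1) ≤ derAll (Assoc P) i := by
        intro i
        induction i with
        | zero => exact le_top
        | succ i ihi => exact brk_mono ihi ihi
      refine adNil_step hA hk hexp hcop h (ih (j + 1) (by omega)) (hanti j) le_rfl ?_
      refine (derAll_homogeneous j).trans ((AddSubgroup.closure_le _).2 ?_)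
      rintro _ ⟨n, x, hx, rfl, hxj⟩
      have h3 := pre_le_iSup_fixS hA hk hexp hcop n (fun a u => derAll_invariant a j u) ⟨hx, hxj⟩
      suffices h4 : (⨆ M : {M : Subgroup A // MaxSub p M}, pre n (derAll (Assoc P) j ⊓ img (fixS P M.1)))
          ≤ pre n (⨆ M : {M : Subgroup A // MaxSub p M}, derAll (Assoc P) j ⊓ img (fixS P M.1)) from
        (h4 h3).2
      exact iSup_le fun M y ⟨hy, hy'⟩ => ⟨hy, AddSubgroup.mem_iSup_of_mem M hy'⟩
  have hE : AdNil (⊤ : AddSubgroup (Assoc P)) (classBound p k c s) := key f 0 (by omega)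
  have hlow : ∀ n, lowerAll (Assoc P) n ≤ adPow ⊤ ⊤ n := by
    intro n
    induction n with
    | zero => exact le_rfl
    | succ n ih => exact (brk_mono ih le_rfl).trans (brk_comm _ _)
  set N := classBound p k c s
  have hstep : gam P N ≤ gam P (N + 1) := fun g hg => by
    have h1 := hlow N (mkL_mem_lowerAll N hg)
    rwa [show adPow (⊤ : AddSubgroup (Assoc P)) ⊤ N = ⊥ from hE, AddSubgroup.mem_bot, mkL_eq_zero] at h1
  obtain ⟨n, hn⟩ := Subgroup.nilpotent_iff_lowerCentralSeries.1 hnil
  have hall : ∀ j, gam P N ≤ gam P (N + j) := by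
    intro j
    induction j with
    | zero => exact le_rfl
    | succ j ih => exact hstep.trans (Subgroup.commutator_mono ih le_rfl)
  exact le_bot_iff.1 ((hall n).trans
    ((Subgroup.lowerCentralSeries_antitone ⊤ (Nat.le_add_left n N)).trans hn.le))

end

end Cfsg.Agent.Lib.RankFixedClass
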