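import Cfsg.Agent.Lib.RankFixedClass.Act
import Cfsg.Agent.Lib.RankFixedClass.AdPow

/-!
# The part of the associated Lie ring coming from a subgroup
-/

set_option autoImplicit false
set_option linter.unusedSectionVars false
set_option linter.style.haveILetI false

namespace Cfsg.Agent.Lib.RankFixedClass

open Kreknin Subgroup
open scoped commutatorElement

variable {A P : Type*} [CommGroup A] [Group P] [MulDistribMulAction A P]

/-- The span of the images of the elements of `S`. -/
noncomputable def img (S : Subgroup P) : AddSubgroup (Assoc P) :=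
  AddSubgroup.closure {z | ∃ (n : ℕ) (x : P) (hx : x ∈ gam P n), x ∈ S ∧ z = mkL n x hx}

theorem mkL_mem_img {S : Subgroup P} {n : ℕ} {x : P} (hx : x ∈ gam P n) (hS : x ∈ S) :
    mkL n x hx ∈ img S := AddSubgroup.subset_closure ⟨n, x, hx, hS, rfl⟩

theorem img_le {S : Subgroup P} {D : AddSubgroup (Assoc P)}
    (h : ∀ (n : ℕ) (x : P) (hx : x ∈ gam P n), x ∈ S → mkL n x hx ∈ D) : img S ≤ D :=
  (AddSubgroup.closure_le _).2 fun _ ⟨n, x, hx, hS, e⟩ => e ▸ h n x hx hS

theorem img_mono {S T : Subgroup P} (h : S ≤ T) : img S ≤ img T :=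
  img_le fun _ _ hx hS => mkL_mem_img hx (h hS)

theorem img_top : img (⊤ : Subgroup P) = ⊤ := by
  rw [eq_top_iff]
  intro u hu'
  clear hu'
  induction u using DirectSum.induction_on with
  | zero => exact zero_mem _
  | add u v hu hv => exact add_mem hu hv
  | of n y =>
    obtain ⟨y, rfl⟩ := Additive.ofMul.surjective y
    induction y using QuotientGroup.induction_on with | _ x =>
    exact mkL_mem_img x.2 (mem_top _)

theorem img_bot : img (⊥ : Subgroup P) = ⊥ := le_bot_iff.1 (img_le fun n x hx hS => by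
  rw [Subgroup.mem_bot] at hS; subst hS
  rw [mkL_one]; exact zero_mem _)

theorem brk_img_le (S T : Subgroup P) : brk (img S) (img T) ≤ img ⁅S, T⁆ := brk_le fun u hu v hv => by
  suffices h : img S ≤ (img ⁅S, T⁆).comap (lieR v) from h hu
  refine img_le fun n x hx hS => ?_
  change ⁅mkL n x hx, v⁆ ∈ img ⁅S, T⁆
  suffices h : img T ≤ (img ⁅S, T⁆).comap (lieL (mkL n x hx)) from h hv
  refine img_le fun m y hy hT => ?_
  change ⁅mkL n x hx, mkL m y hy⁆ ∈ img ⁅S, T⁆
  rw [lie_mkL]
  exact mkL_mem_img _ (commutator_mem_commutator hS hT)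

theorem brk_img_le_of {S T U : Subgroup P} (h : ⁅S, T⁆ ≤ U) : brk (img S) (img T) ≤ img U :=
  (brk_img_le S T).trans (img_mono h)

/-- The elements of `γ_{n+1}` whose image lies in `D`. -/
noncomputable def pre (n : ℕ) (D : AddSubgroup (Assoc P)) : Subgroup P where
  carrier := {x | ∃ h : x ∈ gam P n, mkL n x h ∈ D}
  one_mem' := ⟨one_mem _, by rw [mkL_one]; exact zero_mem _⟩
  mul_mem' := fun ⟨h1, h1'⟩ ⟨h2, h2'⟩ => ⟨mul_mem h1 h2, by rw [mkL_mul h1 h2]; exact add_mem h1' h2'⟩
  inv_mem' := fun ⟨h1, h1'⟩ => ⟨inv_mem h1, by rw [mkL_inv h1]; exact neg_mem h1'⟩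

variable (P) in
/-- The operators on the associated ring. -/
noncomputable def act (a : A) : Assoc P →+ Assoc P := assocMap (MulDistribMulAction.toMulAut A P a)

theorem act_mkL (a : A) {n : ℕ} {x : P} (hx : x ∈ gam P n) :
    act P a (mkL n x hx) = mkL n (a • x) (aInv_gam n a x hx) := assocMap_mkL _ hx

theorem act_fixed {M : Subgroup A} {a : A} (ha : a ∈ M) {u : Assoc P} (hu : u ∈ img (fixS P M)) :
    act P a u = u := by
  suffices h : img (fixS P M) ≤ AddMonoidHom.eqLocus (act P a) (AddMonoidHom.id _) from h hu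
  refine img_le fun n x hx hS => ?_
  change act P a (mkL n x hx) = mkL n x hx
  rw [act_mkL]
  exact mkL_congr rfl (hS a ha) _

variable {p k : ℕ} [hp : Fact p.Prime] [Finite A] [Finite P]

theorem card_smul_eq_zero (u : Assoc P) : Nat.card P • u = 0 := by
  induction u using DirectSum.induction_on with
  | zero => exact smul_zero _
  | add u v hu hv => rw [smul_add, hu, hv, add_zero]
  | of n y =>
    obtain ⟨y, rfl⟩ := Additive.ofMul.surjective y
    induction y using QuotientGroup.induction_on with | _ x =>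
    rw [← map_nsmul, ← ofMul_pow, ← QuotientGroup.mk_pow]
    have : x ^ Nat.card P = 1 := Subtype.ext (by simp [pow_card_eq_one'])
    rw [this, QuotientGroup.mk_one, ofMul_one, map_zero]

theorem mem_of_smul_mem {D : AddSubgroup (Assoc P)} {r : ℕ} (hr : r.Coprime (Nat.card P))
    {u : Assoc P} (h : r • u ∈ D) : u ∈ D := by
  have hg := Nat.gcd_eq_gcd_ab r (Nat.card P)
  rw [hr.gcd_eq_one] at hg
  have e : u = Nat.gcdA r (Nat.card P) • (r • u) := by
    calc u = ((1 : ℕ) : ℤ) • u := by rw [Nat.cast_one, one_zsmul]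
      _ = (r * Nat.gcdA r (Nat.card P) + Nat.card P * Nat.gcdB r (Nat.card P) : ℤ) • u := by rw [hg]
      _ = _ := by
        rw [add_smul, mul_comm (r : ℤ), mul_smul, mul_comm (Nat.card P : ℤ), mul_smul, natCast_zsmul,
          natCast_zsmul, card_smul_eq_zero, smul_zero, add_zero]
  rw [e]; exact zsmul_mem h _

variable (P) in
/-- The sum of the translates under the elements of `M`. -/
noncomputable def norm' (M : Subgroup A) : Assoc P →+ Assoc P :=
  haveI : Fintype M := Fintype.ofFinite M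
  ∑ a : M, act P (a : A)

theorem norm'_eq_smul {M : Subgroup A} {u : Assoc P} (h : ∀ a ∈ M, act P a u = u) :
    norm' P M u = Nat.card M • u := by
  letI : Fintype M := Fintype.ofFinite M
  rw [norm', AddMonoidHom.finsetSum_apply]
  simp [fun a : M => h a a.2, Nat.card_eq_fintype_card]

/-- Sums of translates land in the image of the fixed points. -/
theorem norm'_mem (hA : Nat.card A = p ^ k) (hcop : (Nat.card P).Coprime p) {S : Subgroup P}
    (hS : AInv A S) (M : Subgroup A) {u : Assoc P} (hu : u ∈ img S) :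
    norm' P M u ∈ img (S ⊓ fixS P M) := by
  classical
  suffices h : img S ≤ (img (S ⊓ fixS P M)).comap (norm' P M) from h hu
  refine img_le fun n x hx hxS => ?_
  rw [AddSubgroup.mem_comap]
  letI : Fintype M := Fintype.ofFinite M
  have hsum : ∀ s : Finset M, ∃ (y : P) (hy : y ∈ gam P n), y ∈ S ∧
      mkL n y hy = ∑ a ∈ s, act P (a : A) (mkL n x hx) := by
    intro s
    induction s using Finset.induction with
    | empty => exact ⟨1, one_mem _, one_mem _, by rw [mkL_one, Finset.sum_empty]⟩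
    | @insert a t ha ih =>
      obtain ⟨y, hy, hyS, he⟩ := ih
      exact ⟨(a : A) • x * y, mul_mem (aInv_gam n _ x hx) hy, mul_mem (hS _ x hxS) hyS, by
        rw [mkL_mul (aInv_gam n _ x hx) hy, he, Finset.sum_insert ha, act_mkL]⟩
  obtain ⟨y, hy, hyS, he⟩ := hsum Finset.univ
  have hn : norm' P M (mkL n x hx) = mkL n y hy := by
    rw [he, norm', AddMonoidHom.finsetSum_apply]
  rw [hn]
  -- `y` is fixed modulo the next term
  have hfix : ∀ b : M, y⁻¹ * (b : A) • y ∈ gam P (n + 1) := by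
    intro b
    rw [← mkL_eq_zero (mul_mem (inv_mem hy) (aInv_gam n _ y hy)),
      mkL_mul (inv_mem hy) (aInv_gam n _ y hy), mkL_inv hy, ← act_mkL (b : A) hy,
      neg_add_eq_zero, he, map_sum]
    refine (Fintype.sum_equiv (Equiv.mulLeft b) _ _ fun a => ?_).symm
    rw [act_mkL, act_mkL, act_mkL]
    exact mkL_congr rfl (mul_smul _ _ _).symm _
  letI : MulDistribMulAction M P := MulDistribMulAction.compHom P M.subtype
  obtain ⟨z, hz, hzfix⟩ := Coprime.Action.exists_mul_fixed (A := M) (N := S ⊓ gam P (n + 1)) (g := y)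
    (fun a => (hS.inf (aInv_gam (n + 1))) (a : A)) (coprime_card_subgroup hA hcop M _)
    (Or.inl inferInstance) (fun b => mem_inf.2 ⟨mul_mem (inv_mem hyS) (hS _ y hyS), hfix b⟩)
  have hzg := (mem_inf.1 hz).2
  have hzn : z ∈ gam P n := Subgroup.lowerCentralSeries_antitone ⊤ (Nat.le_succ n) hzg
  rw [mkL_eq_of_mem hy (mul_mem hy hzn) (by rwa [inv_mul_cancel_left])]
  exact mkL_mem_img _ (mem_inf.2 ⟨mul_mem hyS (mem_inf.1 hz).1, fun a ha => hzfix ⟨a, ha⟩⟩)

/-- A fixed element of the image of `S` comes from the fixed points of `S`. -/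
theorem mem_img_fixS (hA : Nat.card A = p ^ k) (hcop : (Nat.card P).Coprime p) {S : Subgroup P}
    (hS : AInv A S) (M : Subgroup A) {u : Assoc P} (hu : u ∈ img S)
    (hfix : ∀ a ∈ M, act P a u = u) : u ∈ img (S ⊓ fixS P M) := by
  have h := norm'_mem hA hcop hS M hu
  rw [norm'_eq_smul hfix] at h
  refine mem_of_smul_mem ?_ h
  have h2 := coprime_card_subgroup hA hcop M (⊤ : Subgroup P)
  rwa [card_top] at h2

theorem pre_le_iSup_fixS (hA : Nat.card A = p ^ k) (hk : 1 ≤ k) (hexp : ∀ a : A, a ^ p = 1)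
    (hcop : (Nat.card P).Coprime p) (n : ℕ) {D : AddSubgroup (Assoc P)}
    (hD : ∀ a : A, ∀ u ∈ D, act P a u ∈ D) :
    pre n D ≤ ⨆ M : {M : Subgroup A // MaxSub p M}, pre n (D ⊓ img (fixS P M.1)) := by
  have hinv : AInv A (pre n D) := fun a x ⟨h, h'⟩ =>
    ⟨aInv_gam n a x h, by rw [← act_mkL a h]; exact hD a _ h'⟩
  refine (le_iSup_fixS hA hk hexp hcop hinv).trans (iSup_mono fun M x hx => ?_)
  obtain ⟨⟨h, h'⟩, hx2⟩ := mem_inf.1 hx
  exact ⟨h, h', mkL_mem_img h hx2⟩

theorem img_le_iSup_fixS (hA : Nat.card A = p ^ k) (hk : 1 ≤ k) (hexp : ∀ a : A, a ^ p = 1)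
    (hcop : (Nat.card P).Coprime p) {S : Subgroup P} (hS : AInv A S) :
    img S ≤ ⨆ M : {M : Subgroup A // MaxSub p M}, img (S ⊓ fixS P M.1) := by
  refine img_le fun n x hx hxS => ?_
  suffices h : S ⊓ gam P n ≤ pre n (⨆ M : {M : Subgroup A // MaxSub p M}, img (S ⊓ fixS P M.1)) by
    obtain ⟨_, h'⟩ := h (mem_inf.2 ⟨hxS, hx⟩)
    exact h'
  refine (le_iSup_fixS hA hk hexp hcop (hS.inf (aInv_gam n))).trans (iSup_le fun M y hy => ?_)
  obtain ⟨⟨h1, h2⟩, h3⟩ := mem_inf.1 hy |>.imp_left mem_inf.1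
  exact ⟨h2, AddSubgroup.mem_iSup_of_mem M (mkL_mem_img h2 (mem_inf.2 ⟨h1, h3⟩))⟩

end Cfsg.Agent.Lib.RankFixedClass
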