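import Cfsg.Agent.Lib.RankFixedClass.Class

/-!
# Special subgroups

`spD d`: generators of the `d`-th derived subgroup; `spL r`: generators of `γ_{r+1}`.
-/

set_option autoImplicit false
set_option linter.unusedSectionVars false

namespace Cfsg.Agent.Lib.RankFixedClass

open Subgroup
open scoped commutatorElement

variable {A G : Type*} [CommGroup A] [Group G] [MulDistribMulAction A G]

/-- Special subgroups for the derived series. -/
def spD (A G : Type*) [CommGroup A] [Group G] [MulDistribMulAction A G] (p : ℕ) :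
    ℕ → Set (Subgroup G)
  | 0 => {J | ∃ M : Subgroup A, MaxSub p M ∧ J = fixS G M}
  | d + 1 => {J | ∃ J₁ ∈ spD A G p d, ∃ J₂ ∈ spD A G p d, ∃ M : Subgroup A, MaxSub p M ∧
      J = ⁅J₁, J₂⁆ ⊓ fixS G M}

/-- Special subgroups for the lower central series. -/
def spL (A G : Type*) [CommGroup A] [Group G] [MulDistribMulAction A G] (p : ℕ) :
    ℕ → Set (Subgroup G)
  | 0 => {J | ∃ M : Subgroup A, MaxSub p M ∧ J = fixS G M}
  | r + 1 => {J | ∃ J₁ ∈ spL A G p r, ∃ M' : Subgroup A, MaxSub p M' ∧ ∃ M : Subgroup A,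
      MaxSub p M ∧ J = ⁅J₁, fixS G M'⁆ ⊓ fixS G M}

theorem spD_inv {p : ℕ} : ∀ d, ∀ J ∈ spD A G p d, AInv A J
  | 0, _, ⟨M, _, h⟩ => h ▸ aInv_fixS M
  | d + 1, _, ⟨_, h₁, _, h₂, M, _, h⟩ =>
    h ▸ ((spD_inv d _ h₁).commutator (spD_inv d _ h₂)).inf (aInv_fixS M)

theorem spL_inv {p : ℕ} : ∀ r, ∀ J ∈ spL A G p r, AInv A J
  | 0, _, ⟨M, _, h⟩ => h ▸ aInv_fixS M
  | r + 1, _, ⟨_, h₁, M', _, M, _, h⟩ =>
    h ▸ ((spL_inv r _ h₁).commutator (aInv_fixS M')).inf (aInv_fixS M)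

theorem spD_fix {p : ℕ} : ∀ d, ∀ J ∈ spD A G p d, ∃ M : Subgroup A, MaxSub p M ∧ J ≤ fixS G M
  | 0, _, ⟨M, hM, h⟩ => ⟨M, hM, h.le⟩
  | _ + 1, _, ⟨_, _, _, _, M, hM, h⟩ => ⟨M, hM, h ▸ inf_le_right⟩

theorem spL_fix {p : ℕ} : ∀ r, ∀ J ∈ spL A G p r, ∃ M : Subgroup A, MaxSub p M ∧ J ≤ fixS G M
  | 0, _, ⟨M, hM, h⟩ => ⟨M, hM, h.le⟩
  | _ + 1, _, ⟨_, _, _, _, M, hM, h⟩ => ⟨M, hM, h ▸ inf_le_right⟩

theorem spD_succ_le {p : ℕ} : ∀ d, ∀ J ∈ spD A G p (d + 1), ∃ J' ∈ spD A G p d, J ≤ J'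
  | 0, _, ⟨_, _, _, _, M, hM, h⟩ => ⟨_, ⟨M, hM, rfl⟩, h ▸ inf_le_right⟩
  | d + 1, _, ⟨J₁, h₁, J₂, h₂, M, hM, h⟩ => by
    obtain ⟨J₁', h₁', l₁⟩ := spD_succ_le d J₁ h₁
    obtain ⟨J₂', h₂', l₂⟩ := spD_succ_le d J₂ h₂
    exact ⟨_, ⟨J₁', h₁', J₂', h₂', M, hM, rfl⟩, h ▸ inf_le_inf_right _ (commutator_mono l₁ l₂)⟩

theorem spL_succ_le {p : ℕ} : ∀ r, ∀ J ∈ spL A G p (r + 1), ∃ J' ∈ spL A G p r, J ≤ J'
  | 0, _, ⟨_, _, _, _, M, hM, h⟩ => ⟨_, ⟨M, hM, rfl⟩, h ▸ inf_le_right⟩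
  | r + 1, _, ⟨J₁, h₁, M', hM', M, hM, h⟩ => by
    obtain ⟨J₁', h₁', l₁⟩ := spL_succ_le r J₁ h₁
    exact ⟨_, ⟨J₁', h₁', M', hM', M, hM, rfl⟩, h ▸ inf_le_inf_right _ (commutator_mono l₁ le_rfl)⟩

theorem spD_closed {p : ℕ} {d : ℕ} {J₁ J₂ : Subgroup G} (h₁ : J₁ ∈ spD A G p d)
    (h₂ : J₂ ∈ spD A G p d) {M : Subgroup A} (hM : MaxSub p M) :
    ∃ J ∈ spD A G p d, ⁅J₁, J₂⁆ ⊓ fixS G M ≤ J :=
  spD_succ_le d _ ⟨J₁, h₁, J₂, h₂, M, hM, rfl⟩

theorem spL_closed {p : ℕ} {r : ℕ} {J₁ J₂ : Subgroup G} (h₁ : J₁ ∈ spL A G p r)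
    (h₂ : J₂ ∈ spL A G p r) {M : Subgroup A} (hM : MaxSub p M) :
    ∃ J ∈ spL A G p r, ⁅J₁, J₂⁆ ⊓ fixS G M ≤ J := by
  obtain ⟨M₂, hM₂, hle⟩ := spL_fix r J₂ h₂
  obtain ⟨J, hJ, hle'⟩ := spL_succ_le r _ ⟨J₁, h₁, M₂, hM₂, M, hM, rfl⟩
  exact ⟨J, hJ, le_trans (inf_le_inf_right _ (commutator_mono le_rfl hle)) hle'⟩

theorem dS_mono {S T : Subgroup G} (h : S ≤ T) : ∀ n, dS S n ≤ dS T n
  | 0 => h
  | n + 1 => commutator_mono (dS_mono h n) (dS_mono h n)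

theorem dS_top : ∀ n, dS (⊤ : Subgroup G) n = derivedSeries G n
  | 0 => rfl
  | n + 1 => by rw [derivedSeries_succ, ← dS_top n]; rfl

variable {p k : ℕ} [hp : Fact p.Prime] [Finite A]

theorem maxSub_index {M : Subgroup A} (hM : MaxSub p M) : M.index = p := by
  have h := M.card_mul_index
  rw [← hM] at h
  exact Nat.eq_of_mul_eq_mul_left Nat.card_pos h

theorem spD_plane : ∀ d, ∀ J ∈ spD A G p d, ∃ B : Subgroup A, B.index ≤ p ^ 2 ^ d ∧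
    ∀ b ∈ B, J ≤ dS (fixE G b) d
  | 0, _, ⟨M, hM, h⟩ => ⟨M, by rw [maxSub_index hM, pow_zero, pow_one], fun b hb => h ▸ fixS_le_fixE hb⟩
  | d + 1, _, ⟨J₁, h₁, J₂, h₂, M, _, h⟩ => by
    obtain ⟨B₁, i₁, l₁⟩ := spD_plane d J₁ h₁
    obtain ⟨B₂, i₂, l₂⟩ := spD_plane d J₂ h₂
    refine ⟨B₁ ⊓ B₂, (Subgroup.index_inf_le (H := B₁) (K := B₂)).trans ?_,
      fun b hb => h ▸ inf_le_left.trans (commutator_mono (l₁ b hb.1) (l₂ b hb.2))⟩
    rw [pow_succ, pow_mul, pow_two]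
    exact Nat.mul_le_mul i₁ i₂

theorem spL_plane : ∀ r, ∀ J ∈ spL A G p r, ∃ B : Subgroup A, B.index ≤ p ^ (r + 1) ∧
    ∀ b ∈ B, J ≤ (fixE G b).lowerCentralSeries r
  | 0, _, ⟨M, hM, h⟩ => ⟨M, by rw [maxSub_index hM, Nat.zero_add, pow_one], fun b hb => h ▸ fixS_le_fixE hb⟩
  | r + 1, _, ⟨J₁, h₁, M', hM', M, _, h⟩ => by
    obtain ⟨B₁, i₁, l₁⟩ := spL_plane r J₁ h₁
    refine ⟨B₁ ⊓ M', (Subgroup.index_inf_le (H := B₁) (K := M')).trans ?_,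
      fun b hb => h ▸ inf_le_left.trans (commutator_mono (l₁ b hb.1) (fixS_le_fixE hb.2))⟩
    rw [pow_succ, maxSub_index hM']
    exact Nat.mul_le_mul_right p i₁

theorem card_of_index_le (hA : Nat.card A = p ^ k) {B : Subgroup A} {m : ℕ} (h : B.index ≤ p ^ m)
    (hm : m + 2 ≤ k) : p ^ 2 ≤ Nat.card B := by
  refine Nat.le_of_mul_le_mul_right ?_ (pow_pos hp.out.pos m)
  calc p ^ 2 * p ^ m ≤ p ^ k := by rw [← pow_add, add_comm]; exact Nat.pow_le_pow_right hp.out.pos hm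
    _ = Nat.card B * B.index := by rw [B.card_mul_index, hA]
    _ ≤ Nat.card B * p ^ m := Nat.mul_le_mul_left _ h

variable [Finite G]

/-- Commutators with a generating family. -/
theorem commutator_iSup_le {ι κ : Sort*} (S : ι → Subgroup G) (U : κ → Subgroup G) (R : Subgroup G)
    (hS : ∀ i, S i ≤ normalizer (R : Set G)) (hU : ∀ j, U j ≤ normalizer (R : Set G))
    (h : ∀ i j, ⁅S i, U j⁆ ≤ R) : ⁅⨆ i, S i, ⨆ j, U j⁆ ≤ R := by
  rw [commutator_le]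
  intro x hx y hy
  suffices key : ∀ y ∈ ⨆ j, U j, ∀ i, ∀ x ∈ S i, ⁅x, y⁆ ∈ R by
    have hyN : y ∈ normalizer (R : Set G) := iSup_le hU hy
    refine (?_ : x ∈ normalizer (R : Set G) ∧ ⁅x, y⁆ ∈ R).2
    induction hx using Subgroup.iSup_induction' with
    | hp i x hxi => exact ⟨hS i hxi, key y hy i x hxi⟩
    | h1 => exact ⟨one_mem _, by rw [commutatorElement_one_left]; exact one_mem _⟩
    | hmul a b _ _ ha hb =>
      refine ⟨mul_mem ha.1 hb.1, ?_⟩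
      rw [show ⁅a * b, y⁆ = a * ⁅b, y⁆ * a⁻¹ * ⁅a, y⁆ by group]
      exact mul_mem ((mem_normalizer_iff.1 ha.1 _).1 hb.2) ha.2
  intro y hy
  refine (?_ : y ∈ normalizer (R : Set G) ∧ ∀ i, ∀ x ∈ S i, ⁅x, y⁆ ∈ R).2
  induction hy using Subgroup.iSup_induction' with
  | hp j y hyj => exact ⟨hU j hyj, fun i x hx => h i j (commutator_mem_commutator hx hyj)⟩
  | h1 => exact ⟨one_mem _, fun i x _ => by rw [commutatorElement_one_right]; exact one_mem _⟩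
  | hmul a b _ _ ha hb =>
    refine ⟨mul_mem ha.1 hb.1, fun i x hx => ?_⟩
    rw [show ⁅x, a * b⁆ = ⁅x, a⁆ * (a * ⁅x, b⁆ * a⁻¹) by group]
    exact mul_mem (ha.2 i x hx) ((mem_normalizer_iff.1 ha.1 _).1 (hb.2 i x hx))

/-- A join is normalized by `U` when the commutators of `U` with its generators lie in it. -/
theorem le_normalizer_iSup {ι : Sort*} (S : ι → Subgroup G) (U : Subgroup G)
    (h : ∀ i, ⁅U, S i⁆ ≤ ⨆ i, S i) : U ≤ normalizer ((⨆ i, S i : Subgroup G) : Set G) := by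
  rw [le_normalizer_iff]
  intro u hu x hx
  suffices h' : (⨆ i, S i) ≤ (⨆ i, S i).comap (MulAut.conj u).toMonoidHom from h' hx
  refine iSup_le fun i y hy => ?_
  rw [mem_comap]
  change u * y * u⁻¹ ∈ ⨆ i, S i
  rw [show u * y * u⁻¹ = ⁅u, y⁆ * y by group]
  exact mul_mem (h i (commutator_mem_commutator hu hy)) (mem_iSup_of_mem i hy)

theorem AInv.le_of_fixS_le (hA : Nat.card A = p ^ k) (hk : 1 ≤ k) (hexp : ∀ a : A, a ^ p = 1)
    (hcop : (Nat.card G).Coprime p) {S R : Subgroup G} (hS : AInv A S)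
    (h : ∀ M : Subgroup A, MaxSub p M → S ⊓ fixS G M ≤ R) : S ≤ R :=
  (le_iSup_fixS hA hk hexp hcop hS).trans (iSup_le fun M => h M.1 M.2)

theorem spD_generates (hA : Nat.card A = p ^ k) (hk : 1 ≤ k) (hexp : ∀ a : A, a ^ p = 1)
    (hcop : (Nat.card G).Coprime p) :
    ∀ d, ⨆ J : spD A G p d, J.1 = dS (⊤ : Subgroup G) d := by
  intro d
  induction d with
  | zero =>
    refine le_antisymm le_top (AInv.le_of_fixS_le hA hk hexp hcop aInv_top fun M hM => ?_)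
    exact inf_le_right.trans (le_iSup (fun J : spD A G p 0 => J.1) ⟨_, M, hM, rfl⟩)
  | succ d ih =>
    set R := ⨆ J : spD A G p (d + 1), J.1 with hR
    refine le_antisymm (iSup_le ?_) ?_
    · rintro ⟨_, J₁, h₁, J₂, h₂, M, _, rfl⟩
      change _ ≤ ⁅dS (⊤ : Subgroup G) d, dS (⊤ : Subgroup G) d⁆
      rw [← ih]
      exact inf_le_left.trans (commutator_mono (le_iSup (fun J : spD A G p d => J.1) ⟨_, h₁⟩)
        (le_iSup (fun J : spD A G p d => J.1) ⟨_, h₂⟩))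
    · have hcomm : ∀ J₁ ∈ spD A G p d, ∀ J₂ ∈ spD A G p d, ⁅J₁, J₂⁆ ≤ R := fun J₁ h₁ J₂ h₂ =>
        AInv.le_of_fixS_le hA hk hexp hcop ((spD_inv d _ h₁).commutator (spD_inv d _ h₂))
          fun M hM => le_iSup (fun J : spD A G p (d + 1) => J.1) ⟨_, J₁, h₁, J₂, h₂, M, hM, rfl⟩
      have hn : ∀ J : spD A G p d, J.1 ≤ normalizer (R : Set G) := fun J => by
        refine le_normalizer_iSup _ _ fun J' => ?_
        obtain ⟨J'', h'', hle⟩ := spD_succ_le d _ J'.2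
        exact (commutator_mono le_rfl hle).trans (hcomm _ J.2 _ h'')
      change ⁅dS (⊤ : Subgroup G) d, dS (⊤ : Subgroup G) d⁆ ≤ R
      rw [← ih]
      exact commutator_iSup_le _ _ R hn hn fun i j => hcomm _ i.2 _ j.2

theorem spL_generates (hA : Nat.card A = p ^ k) (hk : 1 ≤ k) (hexp : ∀ a : A, a ^ p = 1)
    (hcop : (Nat.card G).Coprime p) :
    ∀ r, ⨆ J : spL A G p r, J.1 = (⊤ : Subgroup G).lowerCentralSeries r := by
  have htop : (⨆ M : {M : Subgroup A // MaxSub p M}, fixS G M.1) = ⊤ :=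
    le_antisymm le_top (AInv.le_of_fixS_le hA hk hexp hcop aInv_top fun M hM =>
      inf_le_right.trans (le_iSup (fun M : {M : Subgroup A // MaxSub p M} => fixS G M.1) ⟨M, hM⟩))
  intro r
  induction r with
  | zero =>
    refine le_antisymm le_top (AInv.le_of_fixS_le hA hk hexp hcop aInv_top fun M hM => ?_)
    exact inf_le_right.trans (le_iSup (fun J : spL A G p 0 => J.1) ⟨_, M, hM, rfl⟩)
  | succ r ih =>
    set R := ⨆ J : spL A G p (r + 1), J.1 with hR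
    rw [Subgroup.lowerCentralSeries_succ, ← ih]
    refine le_antisymm (iSup_le ?_) ?_
    · rintro ⟨_, J₁, h₁, M', _, M, _, rfl⟩
      exact inf_le_left.trans (commutator_mono (le_iSup (fun J : spL A G p r => J.1) ⟨_, h₁⟩) le_top)
    · have hcomm : ∀ J₁ ∈ spL A G p r, ∀ M : Subgroup A, MaxSub p M → ⁅J₁, fixS G M⁆ ≤ R :=
        fun J₁ h₁ M' hM' => AInv.le_of_fixS_le hA hk hexp hcop
          ((spL_inv r _ h₁).commutator (aInv_fixS M'))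
          fun M hM => le_iSup (fun J : spL A G p (r + 1) => J.1) ⟨_, J₁, h₁, M', hM', M, hM, rfl⟩
      have hn : ∀ M : {M : Subgroup A // MaxSub p M}, fixS G M.1 ≤ normalizer (R : Set G) := fun M => by
        refine le_normalizer_iSup _ _ fun J' => ?_
        obtain ⟨J'', h'', hle⟩ := spL_succ_le r _ J'.2
        rw [Subgroup.commutator_comm]
        exact (commutator_mono hle le_rfl).trans (hcomm _ h'' _ M.2)
      have hall : (⊤ : Subgroup G) ≤ normalizer (R : Set G) := htop.symm.le.trans (iSup_le hn)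
      rw [← htop]
      exact commutator_iSup_le _ _ R (fun _ => le_top.trans hall) hn fun i j => hcomm _ i.2 _ j.2

end Cfsg.Agent.Lib.RankFixedClass
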