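import Cfsg.Agent.Lib.RankFixedClass.Nilpotent
import Cfsg.Agent.Lib.RankFixedClass.Special
import Cfsg.Agent.S0515

/-!
# Bounds on the class of derived and lower central terms of coprime fixed points
-/

set_option autoImplicit false
set_option linter.unusedSectionVars false
set_option linter.style.haveILetI false

namespace Cfsg.Agent.Lib.RankFixedClass

open Subgroup
open scoped commutatorElement

variable {A G : Type} [CommGroup A] [Group G] [MulDistribMulAction A G]
  {p k : ℕ} [hp : Fact p.Prime] [Finite A] [Finite G]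

theorem dS_add {G : Type*} [Group G] (S : Subgroup G) (m : ℕ) :
    ∀ n, dS S (n + m) = dS (dS S m) n
  | 0 => by rw [Nat.zero_add]; rfl
  | n + 1 => by rw [Nat.succ_add]; change ⁅dS S (n + m), dS S (n + m)⁆ = _; rw [dS_add S m n]; rfl

theorem dS_le_lcs {G : Type*} [Group G] (S : Subgroup G) : ∀ n, dS S n ≤ S.lowerCentralSeries n
  | 0 => le_rfl
  | n + 1 => commutator_mono (dS_le_lcs S n) (dS_antitone S n)

theorem dS_normalized {G : Type*} [Group G] (S : Subgroup G) :
    ∀ n, S ≤ normalizer (dS S n : Set G)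
  | 0 => le_normalizer
  | n + 1 => by
    rw [le_normalizer_iff]
    intro u hu x hx
    suffices h : dS S (n + 1) ≤ (dS S (n + 1)).comap (MulAut.conj u).toMonoidHom from h hx
    change ⁅dS S n, dS S n⁆ ≤ _
    rw [commutator_le]
    intro a ha b hb
    rw [mem_comap, map_commutatorElement]
    exact commutator_mem_commutator ((mem_normalizer_iff.1 (dS_normalized S n hu) a).1 ha)
      ((mem_normalizer_iff.1 (dS_normalized S n hu) b).1 hb)

theorem map_dS {G K : Type*} [Group G] [Group K] (f : G →* K) (S : Subgroup G) :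
    ∀ n, (dS S n).map f = dS (S.map f) n
  | 0 => rfl
  | n + 1 => by
    change (⁅dS S n, dS S n⁆).map f = ⁅dS (S.map f) n, dS (S.map f) n⁆
    rw [map_commutator, map_dS f S n]

theorem isSolvable_of_dS {G : Type*} [Group G] {S : Subgroup G} {n : ℕ} (h : dS S n = ⊥) :
    Group.IsSolvable S := by
  refine (Group.isSolvable_def S).2 ⟨n, map_injective S.subtype_injective ?_⟩
  rw [← dS_top, map_dS, ← MonoidHom.range_eq_map, range_subtype, h, Subgroup.map_bot]

/-- A coprime rank three group of operators with solvable fixed points. -/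
theorem isSolvable_of_fixE (hA : Nat.card A = p ^ k) (hk : 3 ≤ k) (hexp : ∀ a : A, a ^ p = 1)
    (hcop : (Nat.card G).Coprime p) (h : ∀ a : A, a ≠ 1 → Group.IsSolvable (fixE G a)) :
    Group.IsSolvable G := by
  haveI := Coprime.Action.finite_semi (A := A) (G := G)
  have key := S0515.result (X := Coprime.Action.Semi A G) p (Coprime.Action.actA A G)
    (Coprime.Action.grpG A G) ⟨⟨fun x y => Subtype.ext (by
      obtain ⟨a, ha⟩ := x.2
      obtain ⟨b, hb⟩ := y.2
      show (x : Coprime.Action.Semi A G) * y = y * x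
      rw [← ha, ← hb, ← map_mul, ← map_mul, mul_comm])⟩⟩
    (by rintro _ ⟨a, rfl⟩; rw [← map_pow, hexp, map_one])
    (by rw [Coprime.Action.card_actA, hA]; exact Nat.pow_le_pow_right hp.out.pos hk)
    (by rw [Coprime.Action.card_grpG]; exact hcop) Coprime.Action.actA_le_normalizer_grpG ?_
  · haveI := key
    exact Group.isSolvable_of_surjective (f := (MonoidHom.ofInjective
      (f := (SemidirectProduct.inl : G →* Coprime.Action.Semi A G))
      SemidirectProduct.inl_injective).symm.toMonoidHom) (MulEquiv.surjective _)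
  · rintro _ ⟨a, rfl⟩ hne
    have ha : a ≠ 1 := fun e => hne (by rw [e, map_one])
    haveI := h a ha
    have hle : Coprime.Action.grpG A G ⊓ centralizer {(SemidirectProduct.inr a : Coprime.Action.Semi A G)}
        ≤ (fixE G a).map (Coprime.Action.embG A G) := by
      intro z hz
      obtain ⟨⟨g, rfl⟩, hzc⟩ := mem_inf.1 hz
      refine mem_map_of_mem _ ?_
      apply SemidirectProduct.inl_injective (φ := MulDistribMulAction.toMulAut A G)
      show Coprime.Action.embG A G (a • g) = Coprime.Action.embG A G g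
      rw [Coprime.Action.inl_smul, mem_centralizer_iff.1 hzc _ rfl]
      group
    haveI : Group.IsSolvable ((fixE G a).map (Coprime.Action.embG A G)) := Coprime.isSolvable_map _ _
    exact Group.isSolvable_of_isSolvable_injective (f := Subgroup.inclusion hle) (inclusion_injective hle)

theorem map_subgroupOf_le {G : Type*} [Group G] (J H : Subgroup G) :
    (J.subgroupOf H).map H.subtype ≤ J := by
  rintro _ ⟨x, hx, rfl⟩; exact hx

/-- From a covering of `H ≤ G` to a bound on its class. -/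
theorem class_of_family (hA : Nat.card A = p ^ k) (hk : 3 ≤ k) (hexp : ∀ a : A, a ^ p = 1)
    (hcop : (Nat.card G).Coprime p) {c s : ℕ} (T : A → Subgroup G) (Fam : Set (Subgroup G))
    (H : Subgroup G) (hgen : ⨆ J : Fam, J.1 = H)
    (hinv : ∀ J ∈ Fam, AInv A J)
    (hfix : ∀ J ∈ Fam, ∃ M : Subgroup A, MaxSub p M ∧ J ≤ fixS G M)
    (hplane : ∀ J ∈ Fam, ∃ B : Subgroup A, p ^ 2 ≤ Nat.card B ∧ ∀ b ∈ B, b ≠ 1 → J ≤ T b)
    (hclosed : ∀ J₁ ∈ Fam, ∀ J₂ ∈ Fam, ∀ M : Subgroup A, MaxSub p M →
      ∃ J ∈ Fam, ⁅J₁, J₂⁆ ⊓ fixS G M ≤ J)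
    (hTle : ∀ b : A, b ≠ 1 → T b ≤ fixE G b)
    (hTn : ∀ b : A, b ≠ 1 → fixE G b ≤ normalizer (T b : Set G))
    (hTc : ∀ b : A, b ≠ 1 → (T b).lowerCentralSeries c = ⊥)
    (hFs : ∀ b : A, b ≠ 1 → dS (fixE G b) s = ⊥) :
    H.lowerCentralSeries (classBound p k c s) = ⊥ := by
  have hsolv : Group.IsSolvable G :=
    isSolvable_of_fixE hA hk hexp hcop fun b hb => isSolvable_of_dS (hFs b hb)
  haveI hnil : Group.IsNilpotent H := isNilpotent_of_pieces hA (by omega) hexp hcop hsolv T
    (fun b hb => Subgroup.isNilpotent_of_lowerCentralSeries_eq_bot (hTc b hb)) hTn Fam hplane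
    (hgen ▸ iSup_le fun J => le_iSup₂_of_le J.1 J.2 le_rfl)
  have hHinv : AInv A H := hgen ▸ aInv_iSup fun J => hinv J.1 J.2
  letI : MulDistribMulAction A H :=
    { smul := fun a x => ⟨a • (x : G), hHinv a _ x.2⟩
      one_smul := fun x => Subtype.ext (one_smul A (x : G))
      mul_smul := fun a b x => Subtype.ext (mul_smul a b (x : G))
      smul_one := fun a => Subtype.ext (smul_one a)
      smul_mul := fun a x y => Subtype.ext (smul_mul' a (x : G) (y : G)) }
  have hJH : ∀ J ∈ Fam, J ≤ H := fun J hJ => hgen ▸ le_iSup (fun J : Fam => J.1) ⟨J, hJ⟩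
  have hsmul : ∀ (a : A) (x : H), ((a • x : H) : G) = a • (x : G) := fun _ _ => rfl
  have hfixS : ∀ M : Subgroup A, fixS ↥H M = (fixS G M).subgroupOf H := fun M => by
    ext x
    simp only [mem_subgroupOf, mem_fixS, Subtype.ext_iff, hsmul]
  have hfixE : ∀ a : A, fixE ↥H a = (fixE G a).subgroupOf H := fun a => by
    ext x
    simp only [mem_subgroupOf, mem_fixE, Subtype.ext_iff, hsmul]
  have hcov : Cover p c s (fun b => (T b).subgroupOf H) ((fun J => J.subgroupOf H) '' Fam) := by
    refine ⟨?_, ?_, ?_, ?_, ?_, ?_, ?_, ?_, ?_⟩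
    · refine top_le_iff.1 ?_
      rw [← Subgroup.map_le_map_iff_of_injective H.subtype_injective, ← MonoidHom.range_eq_map,
        range_subtype]
      simp only [Subgroup.map_iSup]
      conv_lhs => rw [← hgen]
      refine iSup_le fun J => ?_
      refine le_iSup₂_of_le (J.1.subgroupOf H) ⟨J.1, J.2, rfl⟩ ?_
      rw [Subgroup.map_subgroupOf_eq_of_le (hJH _ J.2)]
    · rintro _ ⟨J, hJ, rfl⟩ a x hx
      exact hinv J hJ a _ hx
    · rintro _ ⟨J, hJ, rfl⟩
      obtain ⟨M, hM, hle⟩ := hfix J hJ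
      exact ⟨M, hM, by rw [hfixS]; exact comap_mono hle⟩
    · rintro _ ⟨J, hJ, rfl⟩
      obtain ⟨B, hB, hle⟩ := hplane J hJ
      exact ⟨B, hB, fun b hb hb1 => comap_mono (hle b hb hb1)⟩
    · rintro _ ⟨J₁, h₁, rfl⟩ _ ⟨J₂, h₂, rfl⟩ M hM
      obtain ⟨J, hJ, hle⟩ := hclosed J₁ h₁ J₂ h₂ M hM
      refine ⟨_, ⟨J, hJ, rfl⟩, ?_⟩
      rw [hfixS]
      intro x hx
      obtain ⟨hx1, hx2⟩ := mem_inf.1 hx
      refine hle (mem_inf.2 ⟨?_, hx2⟩)
      have h := mem_map_of_mem H.subtype hx1
      rw [map_commutator] at h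
      exact commutator_mono (map_subgroupOf_le _ _) (map_subgroupOf_le _ _) h
    · intro b hb
      rw [hfixE]
      exact comap_mono (hTle b hb)
    · intro b hb
      rw [hfixE, le_normalizer_iff]
      intro u hu x hx
      exact (mem_normalizer_iff.1 (hTn b hb hu) _).1 hx
    · intro b hb
      refine map_injective H.subtype_injective ?_
      rw [map_lowerCentralSeries, Subgroup.map_bot, eq_bot_iff, ← hTc b hb]
      exact lowerCentralSeries_mono c (map_subgroupOf_le _ _)
    · intro b hb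
      refine map_injective H.subtype_injective ?_
      rw [map_dS, Subgroup.map_bot, eq_bot_iff, ← hFs b hb, hfixE]
      exact dS_mono (map_subgroupOf_le _ _) s
  have hcopH : (Nat.card H).Coprime p := hcop.coprime_dvd_left (card_subgroup_dvd_card H)
  have h := gam_eq_bot (P := H) hA (by omega) hexp hcopH hcov
  rw [← top_subtype_lowerCentralSeries]
  exact (congrArg (fun S : Subgroup H => S.map H.subtype) h).trans (Subgroup.map_bot _)

/-- The `d`-th derived subgroup. -/
theorem derived_bound (hA : Nat.card A = p ^ k) (hexp : ∀ a : A, a ^ p = 1)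
    (hcop : (Nat.card G).Coprime p) {c d : ℕ} (hd : 2 ^ d + 2 ≤ k)
    (h : ∀ a : A, a ≠ 1 → (dS (fixE G a) d).lowerCentralSeries c = ⊥) :
    (derivedSeries G d).lowerCentralSeries (classBound p k c (c + d)) = ⊥ := by
  have hk : 3 ≤ k := by have := Nat.one_le_two_pow (n := d); omega
  refine class_of_family hA hk hexp hcop (fun b => dS (fixE G b) d) (spD A G p d) _ ?_
    (spD_inv d) (spD_fix d) ?_ (fun J₁ h₁ J₂ h₂ M hM => spD_closed h₁ h₂ hM)
    (fun b _ => dS_antitone _ d) (fun b _ => dS_normalized _ d) h (fun b hb => ?_)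
  · rw [spD_generates hA (by omega) hexp hcop d, dS_top]
  · intro J hJ
    obtain ⟨B, hi, hle⟩ := spD_plane d J hJ
    exact ⟨B, card_of_index_le hA hi hd, fun b hb _ => hle b hb⟩
  · rw [dS_add, eq_bot_iff, ← h b hb]
    exact dS_le_lcs _ c

/-- The `(r + 1)`-st term of the lower central series. -/
theorem lower_bound (hA : Nat.card A = p ^ k) (hexp : ∀ a : A, a ^ p = 1)
    (hcop : (Nat.card G).Coprime p) {c r : ℕ} (hr : r + 3 ≤ k)
    (h : ∀ a : A, a ≠ 1 → ((fixE G a).lowerCentralSeries r).lowerCentralSeries c = ⊥) :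
    ((⊤ : Subgroup G).lowerCentralSeries r).lowerCentralSeries (classBound p k c (c + r)) = ⊥ := by
  have hk : 3 ≤ k := by omega
  refine class_of_family hA hk hexp hcop (fun b => (fixE G b).lowerCentralSeries r) (spL A G p r) _ ?_
    (spL_inv r) (spL_fix r) ?_ (fun J₁ h₁ J₂ h₂ M hM => spL_closed h₁ h₂ hM)
    (fun b _ => lowerCentralSeries_le_self _ r)
    (fun b _ => self_le_normalizer_lowerCentralSeries _ r) h (fun b hb => ?_)
  · rw [spL_generates hA (by omega) hexp hcop r]
  · intro J hJ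
    obtain ⟨B, hi, hle⟩ := spL_plane r J hJ
    exact ⟨B, card_of_index_le hA hi (by omega), fun b hb _ => hle b hb⟩
  · rw [dS_add, eq_bot_iff, ← h b hb]
    exact (dS_mono (dS_le_lcs _ r) c).trans (dS_le_lcs _ c)

end Cfsg.Agent.Lib.RankFixedClass
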