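import Cfsg.Agent.Lib.RankFixedClass.Act
import Cfsg.Agent.Lib.Cores.Basic

/-!
# Nilpotency of subgroups covered by pieces of nilpotent `T b`, normalized by `C(b)`

A `q`-element of a piece centralizes every `A`-invariant normal section of exponent `r ≠ q`; such
elements generate a normal `q`-subgroup of a solvable group.
-/

set_option autoImplicit false
set_option linter.unusedSectionVars false
set_option linter.style.haveILetI false

namespace Cfsg.Agent.Lib.RankFixedClass

open Subgroup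
open scoped commutatorElement

variable {A G : Type*} [CommGroup A] [Group G] [MulDistribMulAction A G]

/-- An invariant normal section of exponent `r`. -/
structure Sect (A : Type*) {G : Type*} [CommGroup A] [Group G] [MulDistribMulAction A G] (r : ℕ)
    (N N' : Subgroup G) : Prop where
  normal : N.Normal
  normal' : N'.Normal
  inv : AInv A N
  pow : ∀ y ∈ N, y ^ r ∈ N'
  prime : r.Prime

variable (A) in
/-- `q`-elements centralizing the sections of exponent prime to `q`. -/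
def qCentral (q : ℕ) (G : Type*) [Group G] [MulDistribMulAction A G] : Set G :=
  {u | (∃ a : ℕ, u ^ q ^ a = 1) ∧ ∀ (r : ℕ) (N N' : Subgroup G), Sect A r N N' → r ≠ q →
    ∀ y ∈ N, ⁅y, u⁆ ∈ N'}

theorem exists_sect [Finite G] (hsol : Group.IsSolvable G) {N : Subgroup G} [hN : N.Normal]
    (hinv : AInv A N) (hne : N ≠ ⊥) :
    ∃ (r : ℕ) (N' : Subgroup G), Sect A r N N' ∧ AInv A N' ∧ N' < N := by
  haveI := hsol
  haveI : Nontrivial N := (Subgroup.nontrivial_iff_ne_bot N).mpr hne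
  set D : Subgroup N := commutator N with hD
  have hDtop : D ≠ ⊤ := (Group.IsSolvable.commutator_lt_top_of_nontrivial N).ne
  haveI : Nontrivial (N ⧸ D) := QuotientGroup.nontrivial_iff.2 hDtop
  obtain ⟨r, hr, hdvd⟩ := Nat.exists_prime_and_dvd (Finite.one_lt_card (α := N ⧸ D)).ne'
  haveI := Fact.mk hr
  let f : Abelianization N →* Abelianization N := powMonoidHom r
  have hf : f.range ≠ ⊤ := by
    intro h
    obtain ⟨x, hx⟩ := exists_prime_orderOf_dvd_card' (G := Abelianization N) r hdvd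
    have hinj := Finite.injective_iff_surjective.2 (MonoidHom.range_eq_top.1 h)
    have h1 : x = 1 := hinj (by
      change x ^ r = (1 : Abelianization N) ^ r
      rw [one_pow, ← hx, pow_orderOf_eq_one])
    rw [h1, orderOf_one] at hx
    exact hr.ne_one hx.symm
  set S : Set G := {z | (∃ x ∈ N, ∃ y ∈ N, z = ⁅x, y⁆) ∨ ∃ x ∈ N, z = x ^ r} with hS
  have hstable : ∀ φ : G →* G, (∀ x ∈ N, φ x ∈ N) → ∀ z ∈ closure S, φ z ∈ closure S := by
    intro φ hφ z hz
    suffices h : closure S ≤ (closure S).comap φ from h hz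
    rw [closure_le]
    rintro _ (⟨x, hx, y, hy, rfl⟩ | ⟨x, hx, rfl⟩)
    · exact subset_closure (Or.inl ⟨φ x, hφ x hx, φ y, hφ y hy, map_commutatorElement φ x y⟩)
    · exact subset_closure (Or.inr ⟨φ x, hφ x hx, map_pow φ x r⟩)
  refine ⟨r, closure S, ⟨hN, ⟨fun z hz g => ?_⟩, hinv, fun y hy => subset_closure (Or.inr ⟨y, hy, rfl⟩),
    hr⟩, fun a z hz => ?_, lt_of_le_of_ne ?_ ?_⟩
  · exact hstable (MulAut.conj g).toMonoidHom (fun x hx => hN.conj_mem x hx g) z hz
  · exact hstable (MulDistribMulAction.toMonoidHom G a) (hinv a) z hz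
  · rw [closure_le]
    rintro _ (⟨x, hx, y, hy, rfl⟩ | ⟨x, hx, rfl⟩)
    · exact mul_mem (mul_mem (mul_mem hx hy) (inv_mem hx)) (inv_mem hy)
    · exact pow_mem hx r
  · intro he
    apply hf
    rw [eq_top_iff]
    rintro z -
    obtain ⟨w, rfl⟩ := QuotientGroup.mk'_surjective _ z
    have hle : closure S ≤ (f.range.comap Abelianization.of).map N.subtype := by
      rw [closure_le]
      rintro _ (⟨x, hx, y, hy, rfl⟩ | ⟨x, hx, rfl⟩)
      · refine ⟨⁅(⟨x, hx⟩ : N), (⟨y, hy⟩ : N)⁆, ?_, rfl⟩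
        change Abelianization.of _ ∈ f.range
        rw [map_commutatorElement, (commutatorElement_eq_one_iff_mul_comm).2 (mul_comm _ _)]
        exact one_mem _
      · exact ⟨(⟨x, hx⟩ : N) ^ r, ⟨Abelianization.of ⟨x, hx⟩, (map_pow _ _ _).symm⟩, rfl⟩
    obtain ⟨v, hv, hvw⟩ := hle (he.symm ▸ w.2 : (w : G) ∈ closure S)
    rw [show v = w from Subtype.ext hvw] at hv
    exact hv

section

variable [Finite G] {q : ℕ} [Fact q.Prime]

theorem closure_qCentral_spec {r : ℕ} {N N' : Subgroup G} (h : Sect A r N N') (hr : r ≠ q)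
    {y u : G} (hy : y ∈ N) (hu : u ∈ closure (qCentral A q G)) : ⁅y, u⁆ ∈ N' := by
  haveI := h.normal'
  suffices h2 : ∀ y ∈ N, ⁅y, u⁆ ∈ N' from h2 y hy
  induction hu using closure_induction with
  | mem x hx => exact hx.2 r N N' h hr
  | one => intro y _; rw [commutatorElement_one_right]; exact one_mem _
  | mul x z _ _ h1 h2 =>
    intro y hy
    rw [show ⁅y, x * z⁆ = ⁅y, x⁆ * (x * ⁅y, z⁆ * x⁻¹) by group]
    exact mul_mem (h1 y hy) (h.normal'.conj_mem _ (h2 y hy) x)
  | inv x _ h1 =>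
    intro y hy
    rw [show ⁅y, x⁻¹⁆ = x⁻¹ * ⁅y, x⁆⁻¹ * x⁻¹⁻¹ by group]
    exact h.normal'.conj_mem _ (inv_mem (h1 y hy)) _

theorem closure_qCentral_normal : (closure (qCentral A q G)).Normal := by
  refine ⟨fun u hu g => ?_⟩
  suffices h : closure (qCentral A q G) ≤ (closure (qCentral A q G)).comap (MulAut.conj g).toMonoidHom
    from h hu
  rw [closure_le]
  intro v ⟨⟨a, ha⟩, hv⟩
  refine subset_closure ⟨⟨a, ?_⟩, fun r N N' hs hr y hy => ?_⟩
  · rw [← map_pow, ha, map_one]
  · have h1 := hs.normal'.conj_mem _ (hv r N N' hs hr (g⁻¹ * y * g)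
      (by simpa using hs.normal.conj_mem y hy g⁻¹)) g
    convert h1 using 1
    change ⁅y, g * v * g⁻¹⁆ = _
    group

theorem isPGroup_closure_qCentral (hsol : Group.IsSolvable G) :
    IsPGroup q (closure (qCentral A q G)) := by
  set U := closure (qCentral A q G) with hU
  suffices key : ∀ (n : ℕ) (N : Subgroup G), Nat.card N = n → N.Normal → AInv A N →
      (∀ u ∈ U, ∃ a : ℕ, u ^ q ^ a ∈ N) → IsPGroup q U from
    key _ ⊤ rfl inferInstance aInv_top fun u _ => ⟨0, mem_top _⟩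
  intro n
  induction n using Nat.strong_induction_on with
  | _ n ih =>
    intro N hn hN hinv hpow
    by_cases hne : N = ⊥
    · intro u
      obtain ⟨a, ha⟩ := hpow u u.2
      rw [hne, Subgroup.mem_bot] at ha
      exact ⟨a, Subtype.ext ha⟩
    obtain ⟨r, N', hs, hinv', hlt⟩ := exists_sect (A := A) hsol hinv hne
    haveI := hs.normal'
    have hlt' : Nat.card N' < n := hn ▸ lt_of_not_ge fun hge => hlt.ne (eq_of_le_of_card_ge hlt.le hge)
    refine ih _ hlt' N' rfl hs.normal' hinv' fun u hu => ?_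
    obtain ⟨a, ha⟩ := hpow u hu
    by_cases hrq : r = q
    · exact ⟨a + 1, by
        rw [pow_succ, pow_mul]
        have h' := hs.pow _ ha
        simpa only [hrq] using h'⟩
    set π := QuotientGroup.mk' N'
    set V := U.map π with hV
    let g : V →* G ⧸ N := (QuotientGroup.map N' N (MonoidHom.id G) hlt.le).comp V.subtype
    have hrange : IsPGroup q g.range := by
      rintro ⟨_, ⟨⟨_, ⟨w, hw, rfl⟩⟩, rfl⟩⟩
      obtain ⟨b, hb⟩ := hpow w hw
      refine ⟨b, Subtype.ext ?_⟩
      rw [SubmonoidClass.coe_pow]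
      change g ⟨π w, _⟩ ^ q ^ b = 1
      change (w : G ⧸ N) ^ q ^ b = 1
      rw [← QuotientGroup.mk_pow]
      exact (QuotientGroup.eq_one_iff _).2 hb
    haveI : Group.IsNilpotent g.range := hrange.isNilpotent
    haveI : Group.IsNilpotent V := by
      refine Subgroup.isNilpotent_of_ker_le_center g.rangeRestrict ?_
      rintro ⟨_, ⟨w, hw, rfl⟩⟩ hk
      rw [MonoidHom.ker_rangeRestrict, MonoidHom.mem_ker] at hk
      change (w : G ⧸ N) = 1 at hk
      rw [QuotientGroup.eq_one_iff] at hk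
      rw [Subgroup.mem_center_iff]
      rintro ⟨_, ⟨z, hz, rfl⟩⟩
      refine Subtype.ext ?_
      change π z * π w = π w * π z
      have h1 : π ⁅w, z⁆ = 1 := (QuotientGroup.eq_one_iff _).2 (closure_qCentral_spec hs hrq hk hz)
      rw [map_commutatorElement, commutatorElement_eq_one_iff_mul_comm] at h1
      exact h1.symm
    obtain ⟨Q⟩ : Nonempty (Sylow q V) := inferInstance
    haveI := Sylow.unique_of_normal Q inferInstance
    have hle : V ≤ (Q : Subgroup V).map V.subtype := by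
      refine le_of_eq_of_le (MonoidHom.map_closure π (qCentral A q G)) ((closure_le _).2 ?_)
      rintro _ ⟨w, hw, rfl⟩
      set x : V := ⟨π w, mem_map_of_mem π (subset_closure hw)⟩
      have hx : IsPGroup q (zpowers x) := by
        obtain ⟨b, hb⟩ := hw.1
        obtain ⟨m, -, hm⟩ := (Nat.dvd_prime_pow Fact.out).1 (orderOf_dvd_of_pow_eq_one (x := x)
          (n := q ^ b) (Subtype.ext (by rw [SubmonoidClass.coe_pow]; change π w ^ q ^ b = 1; rw [← map_pow, hb, map_one])))
        exact IsPGroup.of_card (n := m) (by rw [Nat.card_zpowers, hm])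
      obtain ⟨R, hR⟩ := hx.exists_le_sylow
      rw [Subsingleton.elim R Q] at hR
      exact ⟨x, hR (mem_zpowers x), rfl⟩
    obtain ⟨v, hv, hvu⟩ := hle (mem_map_of_mem π hu)
    obtain ⟨b, hb⟩ := Q.isPGroup' ⟨v, hv⟩
    refine ⟨b, (QuotientGroup.eq_one_iff _).1 ?_⟩
    change π (u ^ q ^ b) = 1
    rw [map_pow, ← hvu]
    exact congrArg (fun z : (Q : Subgroup V) => ((z : V) : G ⧸ N')) hb

end

variable {p k : ℕ} [Fact p.Prime] [Finite A] [Finite G]

/-- **A subgroup covered by such pieces is nilpotent.** -/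
theorem isNilpotent_of_pieces (hA : Nat.card A = p ^ k) (hk : 1 ≤ k) (hexp : ∀ a : A, a ^ p = 1)
    (hcop : (Nat.card G).Coprime p) (hsol : Group.IsSolvable G) (T : A → Subgroup G)
    (hT : ∀ b : A, b ≠ 1 → Group.IsNilpotent (T b))
    (hTn : ∀ b : A, b ≠ 1 → fixE G b ≤ normalizer (T b : Set G))
    (Fam : Set (Subgroup G))
    (hFam : ∀ J ∈ Fam, ∃ B : Subgroup A, p ^ 2 ≤ Nat.card B ∧ ∀ b ∈ B, b ≠ 1 → J ≤ T b)
    {H : Subgroup G} (hH : H ≤ ⨆ J ∈ Fam, J) : Group.IsNilpotent H := by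
  refine Cores.isNilpotent_of_le (hH.trans (iSup₂_le fun J hJ => ?_)) Cores.fittingSubgroup_isNilpotent
  obtain ⟨B, hB, hJB⟩ := hFam J hJ
  -- `q`-elements of `J` are central on the sections
  have hcen : ∀ q : ℕ, q.Prime → ∀ u ∈ J, (∃ a : ℕ, u ^ q ^ a = 1) → u ∈ qCentral A q G := by
    intro q hq u hu ⟨a, ha⟩
    haveI := Fact.mk hq
    refine ⟨⟨a, ha⟩, fun r N N' hs hr y hy => ?_⟩
    haveI := hs.normal'
    suffices h : N ≤ (⨆ M : {M : Subgroup A // MaxSub p M}, N ⊓ fixS G M.1) →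
        ∀ y ∈ ⨆ M : {M : Subgroup A // MaxSub p M}, N ⊓ fixS G M.1, ⁅y, u⁆ ∈ N' from
      h (le_iSup_fixS hA hk hexp hcop hs.inv) y (le_iSup_fixS hA hk hexp hcop hs.inv hy)
    intro _ y hy
    induction hy using Subgroup.iSup_induction' with
    | hp M y hyM =>
      obtain ⟨b, hbB, hbM, hb1⟩ := M.2.exists_ne_one hB
      obtain ⟨hyN, hyfix⟩ := mem_inf.1 hyM
      haveI := hT b hb1
      have huT : u ∈ T b := hJB b hbB hb1 hu
      have hvT : y * u * y⁻¹ ∈ T b :=
        (mem_normalizer_iff.1 (hTn b hb1 (hyfix b hbM)) u).1 huT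
      obtain ⟨Q⟩ : Nonempty (Sylow q (T b)) := inferInstance
      haveI := Sylow.unique_of_normal Q inferInstance
      have hmem : ∀ x : T b, x ^ q ^ a = 1 → x ∈ (Q : Subgroup (T b)) := by
        intro x hx
        obtain ⟨m, -, hm⟩ := (Nat.dvd_prime_pow hq).1 (orderOf_dvd_of_pow_eq_one hx)
        obtain ⟨R, hR⟩ := (IsPGroup.of_card (n := m) (G := zpowers x) (p := q)
          (by rw [Nat.card_zpowers, hm])).exists_le_sylow
        rw [Subsingleton.elim R Q] at hR
        exact hR (mem_zpowers x)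
      have hw : (⟨_, mul_mem hvT (inv_mem huT)⟩ : T b) ∈ (Q : Subgroup (T b)) :=
        mul_mem (hmem ⟨_, hvT⟩ (Subtype.ext (by simp [conj_pow, ha])))
          (inv_mem (hmem ⟨u, huT⟩ (Subtype.ext ha)))
      obtain ⟨m, hm⟩ := Q.isPGroup' ⟨_, hw⟩
      have hm' : ⁅y, u⁆ ^ q ^ m = 1 :=
        congrArg (fun z : (Q : Subgroup (T b)) => ((z : T b) : G)) hm
      have hN : ⁅y, u⁆ ∈ N := by
        rw [show ⁅y, u⁆ = y * (u * y⁻¹ * u⁻¹) by group]
        exact mul_mem hyN (hs.normal.conj_mem _ (inv_mem hyN) u)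
      rw [← QuotientGroup.eq_one_iff]
      refine orderOf_eq_one_iff.1 (Nat.dvd_one.1 ?_)
      rw [← (((Nat.coprime_primes hs.prime hq).2 hr).pow_right m).gcd_eq_one]
      refine Nat.dvd_gcd (orderOf_dvd_of_pow_eq_one ?_) (orderOf_dvd_of_pow_eq_one ?_)
      · rw [← QuotientGroup.mk_pow, (QuotientGroup.eq_one_iff _).2 (hs.pow _ hN)]
      · rw [← QuotientGroup.mk_pow, hm', QuotientGroup.mk_one]
    | h1 => rw [commutatorElement_one_left]; exact one_mem _
    | hmul y z _ _ h1 h2 =>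
      rw [show ⁅y * z, u⁆ = y * ⁅z, u⁆ * y⁻¹ * ⁅y, u⁆ by group]
      exact mul_mem (hs.normal'.conj_mem _ h2 y) h1
  intro x hx
  -- split `x` into its primary parts
  set F := Cfsg.fittingSubgroup G with hF
  have hle : ∀ (q : ℕ) [Fact q.Prime] (P : Sylow q (zpowers x)),
      (P : Subgroup (zpowers x)) ≤ F.subgroupOf (zpowers x) := by
    intro q hqF P w hw
    obtain ⟨m, hm⟩ := P.isPGroup' ⟨w, hw⟩
    have hwm : (w : G) ^ q ^ m = 1 :=
      congrArg (fun z : (P : Subgroup (zpowers x)) => ((z : zpowers x) : G)) hm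
    have hwJ : (w : G) ∈ J := zpowers_le.2 hx w.2
    haveI := closure_qCentral_normal (A := A) (G := G) (q := q)
    exact Cores.le_fittingSubgroup (isPGroup_closure_qCentral (q := q) hsol).isNilpotent
      (subset_closure (hcen q hqF.out _ hwJ ⟨m, hwm⟩))
  have htop : (F.subgroupOf (zpowers x)).index = 1 := by
    refine Nat.eq_one_iff_not_exists_prime_dvd.2 fun q hq hdvd => ?_
    haveI : Fact q.Prime := ⟨hq⟩
    obtain ⟨P⟩ : Nonempty (Sylow q (zpowers x)) := inferInstance
    exact P.not_dvd_index (hdvd.trans (Subgroup.index_dvd_of_le (hle q P)))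
  exact Subgroup.subgroupOf_eq_top.1 (Subgroup.index_eq_one.1 htop) (mem_zpowers x)

end Cfsg.Agent.Lib.RankFixedClass
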